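import Cfsg.Agent.H14.SmallDeg.Twist

/-!
The standing hypotheses for the elementary reduction, and first consequences.
-/

set_option autoImplicit false
set_option linter.style.haveILetI false
set_option linter.unusedSectionVars false

open Cfsg Module
open scoped ComplexConjugate

namespace H14.SmallDeg

universe u v

variable {G : Type u} [Group G] [Finite G] {p : ℕ} [hp : Fact p.Prime]

/-- An element of `p`-power order. -/
def IsPElt (p : ℕ) {H : Type*} [Monoid H] (x : H) : Prop := ∃ k, x ^ p ^ k = 1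

theorem IsPElt.map {H K : Type*} [Monoid H] [Monoid K] {x : H} (h : IsPElt p x) (f : H →* K) :
    IsPElt p (f x) := by
  obtain ⟨k, hk⟩ := h
  exact ⟨k, by rw [← map_pow, hk, map_one]⟩

theorem IsPElt.of_map {H K : Type*} [Monoid H] [Monoid K] {x : H} (f : H →* K)
    (hf : Function.Injective f) (h : IsPElt p (f x)) : IsPElt p x := by
  obtain ⟨k, hk⟩ := h
  exact ⟨k, hf (by rw [map_pow, hk, map_one])⟩

theorem IsPElt.conj {x : G} (h : IsPElt p x) (g : G) : IsPElt p (g * x * g⁻¹) :=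
  h.map (MulAut.conj g).toMonoidHom

/-- A `p`-element lies in a Sylow subgroup. -/
theorem exists_sylow_of_pelt {x : G} (h : IsPElt p x) : ∃ R : Sylow p G, x ∈ (R : Subgroup G) := by
  obtain ⟨k, hk⟩ := h
  obtain ⟨j, -, hj⟩ := (Nat.dvd_prime_pow hp.out).1 (orderOf_dvd_of_pow_eq_one hk)
  obtain ⟨R, hR⟩ := (IsPGroup.of_card (n := j) (by rw [Nat.card_zpowers, hj]) :
    IsPGroup p (Subgroup.zpowers x)).exists_le_sylow
  exact ⟨R, hR (Subgroup.mem_zpowers x)⟩

theorem pelt_of_mem {H : Subgroup G} {R : Sylow p H} {x : H} (hx : x ∈ (R : Subgroup H)) :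
    IsPElt p (x : G) :=
  IsPElt.map (exists_pow_of_mem_sylow R hx) H.subtype

/-- The standing hypotheses. -/
structure Ctx (p : ℕ) {G : Type u} [Group G] (χ : G → ℂ) (n : ℕ) [Fact p.Prime] : Prop where
  irr : IsIrrCharacter G χ
  faith : ∀ g : G, χ g = χ 1 → g = 1
  deg : H12.degree χ = n
  small : n + 2 ≤ p
  seven : 7 ≤ p ∨ (5 ≤ p ∧ n ≤ 2)
  notNormal : ∀ P : Sylow p G, ¬ (P : Subgroup G).Normal
  free : ∀ x : G, IsPElt p x → x ∈ Subgroup.center G → x = 1
  low : ∀ k < n, Red.{u} p k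

variable {χ : G → ℂ} {n : ℕ}

theorem Ctx.comm (h : Ctx p χ n) (P : Sylow p G) :
    ∀ a ∈ (P : Subgroup G), ∀ b ∈ (P : Subgroup G), a * b = b * a :=
  SmallDegree.sylow_comm P (H12.isCharacter_of_isIrrCharacter h.irr) h.faith
    (H12.IsCharacter.apply_one_eq_degree (H12.isCharacter_of_isIrrCharacter h.irr))
    (by rw [h.deg]; have := h.small; omega)

/-- A joint eigenspace of a normal subgroup of more than half dimension is everything. -/
theorem scalar_of_normal {V : Type v} [AddCommGroup V] [Module ℂ V] [FiniteDimensional ℂ V]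
    (ρ : Representation ℂ G V) [ρ.IsIrreducible] (N : Subgroup G) [N.Normal] [Fintype N]
    (l : N →* ℂˣ) (hl : finrank ℂ V < 2 * finrank ℂ (esp ρ N.subtype l)) :
    ∀ a : N, ρ (a : G) = (l a : ℂ) • 1 := by
  classical
  set E := esp ρ N.subtype l with hE
  have hnat : ∀ (g : G) (a : N), l ⟨g * a * g⁻¹, (inferInstance : N.Normal).conj_mem a a.2 g⟩ = l a := by
    intro g a
    set E' := E.map (ρ g) with hE'
    have hinj : Function.Injective (ρ g) := fun x y hxy => by
      have := congrArg (ρ g⁻¹) hxy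
      rwa [← Module.End.mul_apply, ← Module.End.mul_apply, ← map_mul, inv_mul_cancel, map_one,
        Module.End.one_apply, Module.End.one_apply] at this
    have hfr : finrank ℂ E' = finrank ℂ E :=
      (Submodule.equivMapOfInjective _ hinj E).symm.finrank_eq
    have hne : E ⊓ E' ≠ ⊥ := by
      intro he
      have h1 := Submodule.finrank_sup_add_finrank_inf_eq E E'
      rw [he, finrank_bot, hfr] at h1
      have h2 := Submodule.finrank_le (E ⊔ E')
      omega
    obtain ⟨v, hv, hv0⟩ := Submodule.exists_mem_ne_zero_of_ne_bot hne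
    obtain ⟨hv1, w, hw, rfl⟩ := hv
    set a' : N := ⟨g * a * g⁻¹, (inferInstance : N.Normal).conj_mem a a.2 g⟩ with ha'
    have h1 : ρ (a' : G) (ρ g w) = (l a' : ℂ) • ρ g w := mem_esp.1 hv1 a'
    have h2 : ρ (a' : G) (ρ g w) = (l a : ℂ) • ρ g w := by
      rw [ha', ← Module.End.mul_apply, ← map_mul, inv_mul_cancel_right, map_mul,
        Module.End.mul_apply, show ρ (a : G) w = (l a : ℂ) • w from mem_esp.1 hw a, map_smul]
    exact Units.ext (smul_left_injective ℂ hv0 (h1.symm.trans h2))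
  have htop : E = ⊤ := by
    refine H13.eq_top_of_irreducible ρ _ (fun g x hx => mem_esp.2 fun a => ?_) fun he => ?_
    · have h1 := hnat g⁻¹ a
      have h2 := mem_esp.1 hx ⟨g⁻¹ * a * g⁻¹⁻¹, (inferInstance : N.Normal).conj_mem a a.2 g⁻¹⟩
      rw [h1] at h2
      show ρ (a : G) (ρ g x) = _
      rw [← Module.End.mul_apply, ← map_mul,
        show (a : G) * g = g * (g⁻¹ * a * g⁻¹⁻¹) by group, map_mul, Module.End.mul_apply]
      rw [show ρ (g⁻¹ * (a : G) * g⁻¹⁻¹) x = (l a : ℂ) • x from h2, map_smul]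
    · rw [he, finrank_bot] at hl
      omega
  exact fun a => LinearMap.ext fun x => mem_esp.1 (htop ▸ Submodule.mem_top (x := x)) a

/-- Scalars of a faithful representation are central. -/
theorem center_of_scalar {V : Type v} [AddCommGroup V] [Module ℂ V] [FiniteDimensional ℂ V]
    (ρ : Representation ℂ G V) (hfaith : ∀ g : G, ρ.character g = ρ.character 1 → g = 1) {a : G}
    {c : ℂ} (ha : ρ a = c • 1) : a ∈ Subgroup.center G := by
  refine Subgroup.mem_center_iff.2 fun g => mul_inv_eq_one.1 (hfaith _ ?_)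
  have h1 : ρ (g * a) = ρ (a * g) := by
    rw [map_mul, map_mul, ha, smul_one_mul, mul_smul_one]
  show LinearMap.trace ℂ _ (ρ (g * a * (a * g)⁻¹)) = LinearMap.trace ℂ _ (ρ 1)
  rw [map_mul, h1, ← map_mul, mul_inv_cancel]

/-- A normal abelian `p`-subgroup is trivial. -/
theorem Ctx.normal_eq_bot (h : Ctx p χ n) (N : Subgroup G) [N.Normal]
    (hN : ∀ x ∈ N, IsPElt p x) (hNc : ∀ x ∈ N, ∀ y ∈ N, x * y = y * x) : N = ⊥ := by
  classical
  haveI := Fintype.ofFinite G
  obtain ⟨P⟩ : Nonempty (Sylow p G) := inferInstance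
  have hNP : N ≤ (P : Subgroup G) := by
    intro x hx
    obtain ⟨R, hR⟩ := exists_sylow_of_pelt (hN x hx)
    have hNpg : IsPGroup p N := fun y => by
      obtain ⟨k, hk⟩ := hN y y.2
      exact ⟨k, Subtype.ext hk⟩
    obtain ⟨S, hS⟩ := hNpg.exists_le_sylow
    obtain ⟨g, hg⟩ := MulAction.exists_smul_eq G P S
    have h1 := hS ((inferInstance : N.Normal).conj_mem x hx g)
    rw [← hg, Sylow.coe_subgroup_smul] at h1
    simpa [mul_assoc] using SmallDegree.conj_inv_mem_of h1
  set C := Subgroup.centralizer (N : Set G) with hC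
  have hPC : (P : Subgroup G) ≤ C := fun w hw =>
    Subgroup.mem_centralizer_iff.2 fun r hr => h.comm P r (hNP hr) w hw
  have hNC : N ≤ C := hNP.trans hPC
  haveI := Fintype.ofFinite N
  haveI := Fintype.ofFinite C
  obtain ⟨k, ρ, hρ, hρχ⟩ := id h.irr
  obtain ⟨m, hm⟩ := H12.IsCharacter.exists_mult
    (H12.IsCharacter.res (H12.isCharacter_of_isIrrCharacter h.irr) C)
  have hbig : ∃ φ : IrrCharacter C, m φ ≠ 0 ∧ p ≤ 2 * H12.degree (φ : C → ℂ) + 1 := by
    by_contra! hall
    have hn : ((P.subtype hPC : Sylow p C) : Subgroup C).Normal :=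
      normal_of_constituents _ (fun g hg => Subtype.ext (h.faith g (by simpa using hg))) hm
        (fun φ hφ => hall φ hφ)
    refine h.notNormal P ⟨fun x hx g => ?_⟩
    have h1 : g * x * g⁻¹ ∈ C := (inferInstance : C.Normal).conj_mem x (hPC hx) g
    have h2 : (⟨g * x * g⁻¹, h1⟩ : C) ∈ ((P.subtype hPC : Sylow p C) : Subgroup C) :=
      mem_sylow_of_normal _ hn
        ((IsPElt.conj (exists_pow_of_mem_sylow P hx) g).of_map C.subtype C.subtype_injective)
    rw [Sylow.coe_subtype, Subgroup.mem_subgroupOf] at h2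
    exact h2
  obtain ⟨φ, hφ, hφbig⟩ := hbig
  obtain ⟨l, hl, -⟩ := exists_mu_central φ.2
    (fun a b : N => Subtype.ext (hNc a a.2 b b.2)) (Subgroup.inclusion hNC)
    (fun a g => Subtype.ext (Subgroup.mem_centralizer_iff.1 g.2 a a.2).symm)
  have h1 : mu (φ : C → ℂ) (Subgroup.inclusion hNC) l ≤ mu χ N.subtype l := by
    rw [show mu χ N.subtype l = mu (fun c : C => χ c) (Subgroup.inclusion hNC) l from rfl,
      mu_sum (H12.IsCharacter.res (H12.isCharacter_of_isIrrCharacter h.irr) C) hm]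
    exact (Nat.le_mul_of_pos_left _ (Nat.pos_of_ne_zero hφ)).trans
      (Finset.single_le_sum (f := fun ψ : IrrCharacter C => m ψ *
        mu (ψ : C → ℂ) (Subgroup.inclusion hNC) l) (fun _ _ => Nat.zero_le _) (Finset.mem_univ φ))
  rw [hl, ← hρχ, mu_eq_finrank] at h1
  have hk : finrank ℂ (Fin k → ℂ) = n := by
    rw [← h.deg, ← hρχ, H12.degree_character]
  haveI := hρ
  have hsc := scalar_of_normal ρ N l (by rw [hk]; have := h.small; omega)
  refine (Subgroup.eq_bot_iff_forall N).2 fun x hx => h.free x (hN x hx) ?_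
  exact center_of_scalar ρ (fun g hg => h.faith g (by rw [← hρχ]; exact hg)) (hsc ⟨x, hx⟩)

/-- Restriction does not lower multiplicities. -/
theorem mu_mono {A B : Type v} [Group A] [Fintype A] [Group B] [Fintype B] (hχ : IsCharacter G χ)
    (f : A →* G) (l : A →* ℂˣ) (i : B →* A) : mu χ f l ≤ mu χ (f.comp i) (l.comp i) := by
  obtain ⟨k, ρ, rfl⟩ := hχ
  rw [mu_eq_finrank, mu_eq_finrank]
  exact Submodule.finrank_mono fun x hx => mem_esp.2 fun b => mem_esp.1 hx (i b)

/-- A `p`-element of the derived group with nontrivial image, inside a given Sylow subgroup. -/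
theorem exists_mem_sylow_commutator {K : Type v} [Group K] [Finite K] (π : G →* K)
    (hπ : Function.Surjective π) (R : Sylow p G) {y : K} (hy : y ∈ commutator K)
    (hyp : IsPElt p y) (hy1 : y ≠ 1) :
    ∃ r ∈ (R : Subgroup G), r ∈ commutator G ∧ π r ≠ 1 := by
  obtain ⟨d, hd, hdy⟩ : ∃ d ∈ commutator G, π d = y := by
    have h1 : y ∈ (commutator G).map π := by
      rw [commutator_def, Subgroup.map_commutator, Subgroup.map_top_of_surjective _ hπ,
        ← commutator_def]
      exact hy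
    obtain ⟨d, hd, hdy⟩ := h1
    exact ⟨d, hd, hdy⟩
  obtain ⟨a, b, hb, hab⟩ : ∃ a b : ℕ, ¬ p ∣ b ∧ orderOf d = p ^ a * b := by
    obtain ⟨a, b, hb, hab⟩ := Nat.exists_eq_pow_mul_and_not_dvd (orderOf_pos d).ne' p hp.out.ne_one
    exact ⟨a, b, hb, hab⟩
  have hpe : IsPElt p (d ^ b) := ⟨a, by rw [← pow_mul, mul_comm, ← hab, pow_orderOf_eq_one]⟩
  have hne : π (d ^ b) ≠ 1 := by
    rw [map_pow, hdy]
    intro he
    obtain ⟨k, hk⟩ := hyp
    obtain ⟨j, -, hj⟩ := (Nat.dvd_prime_pow hp.out).1 (orderOf_dvd_of_pow_eq_one hk)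
    have h2 := orderOf_dvd_of_pow_eq_one he
    rcases Nat.eq_zero_or_pos j with h0 | h0
    · rw [h0, pow_zero, orderOf_eq_one_iff] at hj
      exact hy1 hj
    · exact hb (((dvd_pow_self p h0.ne').trans hj.symm.dvd).trans h2)
  obtain ⟨S, hS⟩ := exists_sylow_of_pelt hpe
  obtain ⟨t, ht⟩ := MulAction.exists_smul_eq G R S
  rw [← ht, Sylow.coe_subgroup_smul] at hS
  refine ⟨t⁻¹ * d ^ b * t, SmallDegree.conj_inv_mem_of hS, ?_, fun he => hne ?_⟩
  · simpa using (inferInstance : (commutator G).Normal).conj_mem _ (pow_mem hd b) t⁻¹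
  · calc π (d ^ b) = π t * π (t⁻¹ * d ^ b * t) * (π t)⁻¹ := by
          simp [mul_assoc]
      _ = 1 := by rw [he, mul_one, mul_inv_cancel]

end H14.SmallDeg
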