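import Cfsg.Agent.H14.SmallDeg.Base

/-!
Constituents of lower degree on subgroups: the structure given by induction on the degree.
-/

set_option autoImplicit false
set_option linter.style.haveILetI false
set_option linter.unusedSectionVars false

open Cfsg Module
open scoped ComplexConjugate

namespace H14.SmallDeg

universe u

variable {G : Type u} [Group G] [Finite G] {p : ℕ} [hp : Fact p.Prime] {χ : G → ℂ} {n : ℕ}

/-- The projection modulo the kernel of a constituent. -/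
noncomputable abbrev prj {L : Type u} [Group L] [Finite L] (φ : IrrCharacter L) :
    L →* L ⧸ H24.kerChar φ :=
  QuotientGroup.mk' (H24.kerChar φ)

theorem degree_le_of_sum {L : Type u} [Group L] [Finite L] {F : L → ℂ} (hF : IsCharacter L F)
    {m : IrrCharacter L → ℕ} (hm : F = ∑ ψ, (m ψ : ℂ) • (ψ : L → ℂ)) :
    H12.degree F = ∑ ψ, m ψ * H12.degree (ψ : L → ℂ) := by
  have h := congrFun hm 1
  rw [H12.IsCharacter.apply_one_eq_degree hF] at h
  simp only [Finset.sum_apply, Pi.smul_apply, smul_eq_mul, H12.irr_apply_one] at h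
  exact_mod_cast h

/-- At most one constituent is big, and it occurs once. -/
theorem small_of_ne {L : Type u} [Group L] [Finite L] {F : L → ℂ} (hF : IsCharacter L F)
    {m : IrrCharacter L → ℕ} (hm : F = ∑ ψ, (m ψ : ℂ) • (ψ : L → ℂ))
    (hd : H12.degree F + 2 ≤ p) {φ : IrrCharacter L} (hφ : m φ ≠ 0)
    (hbig : p ≤ 2 * H12.degree (φ : L → ℂ) + 1) :
    m φ = 1 ∧ ∀ ψ, ψ ≠ φ → m ψ ≠ 0 → 2 * H12.degree (ψ : L → ℂ) + 1 < p ∧
      H12.degree (φ : L → ℂ) + m ψ * H12.degree (ψ : L → ℂ) ≤ H12.degree F := by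
  classical
  have hs := degree_le_of_sum hF hm
  rw [← Finset.add_sum_erase _ _ (Finset.mem_univ φ)] at hs
  refine ⟨?_, fun ψ hψ hψ0 => ?_⟩
  · by_contra hne
    have := Nat.mul_le_mul_right (H12.degree (φ : L → ℂ)) (show 2 ≤ m φ by omega)
    omega
  · have h1 := Finset.single_le_sum (f := fun i : IrrCharacter L => m i * H12.degree (i : L → ℂ))
      (fun i _ => Nat.zero_le _) (Finset.mem_erase.2 ⟨hψ, Finset.mem_univ ψ⟩)
    have h2 := Nat.le_mul_of_pos_left (H12.degree (φ : L → ℂ)) (Nat.pos_of_ne_zero hφ)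
    have h3 := Nat.le_mul_of_pos_left (H12.degree (ψ : L → ℂ)) (Nat.pos_of_ne_zero hψ0)
    constructor <;> omega

/-- A normal image of the Sylow subgroup makes the `p`-elements commute modulo the kernel. -/
theorem image_commute {L : Type u} [Group L] [Finite L] (φ : IrrCharacter L)
    (hd : H12.degree (φ : L → ℂ) < p) (R : Sylow p L)
    (hn : ((R : Subgroup L).map (prj φ)).Normal) {x y : L} (hx : IsPElt p x) (hy : IsPElt p y) :
    prj φ x * prj φ y = prj φ y * prj φ x := by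
  obtain ⟨ψ, hψ⟩ := H24.exists_deflate (H24.kerChar φ) φ le_rfl
  set Q := R.mapSurjective (QuotientGroup.mk'_surjective (H24.kerChar φ))
  have hψd : H12.degree (ψ : L ⧸ H24.kerChar φ → ℂ) = H12.degree (φ : L → ℂ) := by
    conv_rhs => rw [← hψ]
    rfl
  have hQn : (Q : Subgroup (L ⧸ H24.kerChar φ)).Normal := hn
  exact SmallDegree.sylow_comm Q (H12.isCharacter_irr ψ)
    (fun g hg => (Subgroup.eq_bot_iff_forall _).1 (H24.kerChar_eq_bot_deflate φ ψ hψ) g
      (H24.mem_kerChar.2 hg)) (H12.irr_apply_one ψ) (by rw [hψd]; exact hd) _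
    (mem_sylow_of_normal Q hQn (hx.map _)) _ (mem_sylow_of_normal Q hQn (hy.map _))

/-- What induction on the degree gives for a constituent with non-normal image. -/
theorem Ctx.image_data (h : Ctx p χ n) {L : Type u} [Group L] [Finite L] (φ : IrrCharacter L)
    (hlt : H12.degree (φ : L → ℂ) < n) (R : Sylow p L)
    (hn : ¬ ((R : Subgroup L).map (prj φ)).Normal) :
    (∀ (B : Type u) [Group B] [Fintype B] (f : B →* L), (∀ b, f b ∈ (R : Subgroup L)) →
        (∃ b, prj φ (f b) ∉ Subgroup.center (L ⧸ H24.kerChar φ)) →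
        ∀ l : B →* ℂˣ, mu (φ : L → ℂ) f l ≤ 1) ∧
      (2 * H12.degree (φ : L → ℂ) + 1 = p → ∀ (B : Type u) [Group B] [Fintype B] (f : B →* L),
        (∀ b, f b ∈ (R : Subgroup L) ∧ f b ∈ commutator L) → (∃ b, prj φ (f b) ≠ 1) →
        mu (φ : L → ℂ) f 1 = 0) ∧
      (∃ y ∈ (R : Subgroup L), y ∈ commutator L ∧ prj φ y ≠ 1) ∧
      (∀ a ∈ (R : Subgroup L), prj φ a ∉ Subgroup.center (L ⧸ H24.kerChar φ) →
        ∀ b ∈ (R : Subgroup L), ∃ i : ℤ,
          prj φ ((a ^ i)⁻¹ * b) ∈ Subgroup.center (L ⧸ H24.kerChar φ)) := by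
  obtain ⟨ψ, hψ⟩ := H24.exists_deflate (H24.kerChar φ) φ le_rfl
  set Q := R.mapSurjective (QuotientGroup.mk'_surjective (H24.kerChar φ)) with hQ
  have hψd : H12.degree (ψ : L ⧸ H24.kerChar φ → ℂ) = H12.degree (φ : L → ℂ) := by
    conv_rhs => rw [← hψ]
    rfl
  obtain ⟨h1, h2, h3, h4⟩ := structure_of_red (h.low _ hlt) (by have := h.small; omega) Q hn ψ.2
    (fun g hg => (Subgroup.eq_bot_iff_forall _).1 (H24.kerChar_eq_bot_deflate φ ψ hψ) g
      (H24.mem_kerChar.2 hg)) hψd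
  have hmu : ∀ (B : Type u) [Group B] [Fintype B] (f : B →* L) (l : B →* ℂˣ),
      mu (φ : L → ℂ) f l = mu (ψ : L ⧸ H24.kerChar φ → ℂ) ((prj φ).comp f) l := by
    intro B _ _ f l
    conv_lhs => rw [← hψ]
    rfl
  refine ⟨fun B _ _ f hf hne l => ?_, fun hk B _ _ f hf hne => ?_, ?_, fun a ha haZ b hb => ?_⟩
  · rw [hmu]
    exact h1 B ((prj φ).comp f) (fun b => Subgroup.mem_map_of_mem _ (hf b)) hne l
  · rw [hmu]
    refine h2 hk B ((prj φ).comp f) (fun b => ⟨Subgroup.mem_map_of_mem _ (hf b).1, ?_⟩) hne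
    have h5 := Subgroup.map_mono (f := prj φ) le_rfl ⟨_, (hf b).2, rfl⟩
    rw [commutator_def, Subgroup.map_commutator] at h5
    exact Subgroup.commutator_mono le_top le_top h5
  · obtain ⟨y, hy, hyD, hy1⟩ := h3
    exact exists_mem_sylow_commutator (prj φ) (QuotientGroup.mk'_surjective _) R hyD
      (exists_pow_of_mem_sylow Q hy) hy1
  · obtain ⟨i, hi⟩ := h4 _ (Subgroup.mem_map_of_mem _ ha) haZ _ (Subgroup.mem_map_of_mem _ hb)
    refine ⟨i, ?_⟩
    rw [map_mul, map_inv, map_zpow]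
    exact hi

end H14.SmallDeg
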