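import Cfsg.Agent.H14.SmallDeg.Constituent

/-!
No nontrivial `p`-subgroup has an eigencharacter of multiplicity at least `(p - 1) / 2`.
-/

set_option autoImplicit false
set_option linter.style.haveILetI false
set_option linter.unusedSectionVars false

open Cfsg Module
open scoped ComplexConjugate commutatorElement

namespace H14.SmallDeg

universe u v

variable {G : Type u} [Group G] [Finite G] {p : ℕ} [hp : Fact p.Prime] {χ : G → ℂ} {n : ℕ}

/-- What a counterexample provides. -/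
def Witness (p : ℕ) [Fact p.Prime] (χ : G → ℂ) (A : Subgroup G) (n : ℕ) : Prop :=
  ∃ (L : Subgroup G) (hAL : A ≤ L) (φ : IrrCharacter L) (m : IrrCharacter L → ℕ) (R : Sylow p L),
    (fun x : L => χ x) = ∑ ψ, (m ψ : ℂ) • (ψ : L → ℂ) ∧ m φ ≠ 0 ∧
    p ≤ 2 * H12.degree (φ : L → ℂ) + 1 ∧ H12.degree (φ : L → ℂ) < n ∧
    ¬ ((R : Subgroup L).map (prj φ)).Normal ∧ A.subgroupOf L ≤ (R : Subgroup L) ∧
    (∃ a : A, prj φ (Subgroup.inclusion hAL a) ∉ Subgroup.center (L ⧸ H24.kerChar φ)) ∧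
    ∀ ψ : IrrCharacter L, ψ ≠ φ → m ψ ≠ 0 → commutator L ≤ H24.kerChar ψ

theorem Ctx.one_lt (h : Ctx p χ n) : 1 < n := by
  by_contra hlt
  obtain ⟨P⟩ : Nonempty (Sylow p G) := inferInstance
  refine h.notNormal P (normal_of_small P (H12.isCharacter_of_isIrrCharacter h.irr) h.faith ?_)
  rw [h.deg]
  have := h.seven
  omega

/-- Multiplicity at least `(p - 1) / 2` yields a witness. -/
theorem Ctx.exists_witness (h : Ctx p χ n) (A : Subgroup G) [Fintype A]
    (hA : ∀ x ∈ A, IsPElt p x) (hAc : ∀ x ∈ A, ∀ y ∈ A, x * y = y * x) (hA1 : A ≠ ⊥)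
    (l : A →* ℂˣ) (hl : p ≤ 2 * mu χ A.subtype l + 1) : Witness p χ A n := by
  classical
  haveI := Fintype.ofFinite G
  obtain ⟨g, a, ha, b, hb, hab⟩ :
      ∃ g : G, ∃ a ∈ A, ∃ b ∈ A, a * (g * b * g⁻¹) ≠ g * b * g⁻¹ * a := by
    by_contra! hall
    refine hA1 (eq_bot_iff.2 ?_)
    set S : Set G := {x | ∃ g : G, ∃ b ∈ A, g * b * g⁻¹ = x} with hS
    haveI hSn : (Subgroup.closure S).Normal := by
      refine Subgroup.normalizer_eq_top_iff.1 (top_le_iff.1 fun g _ => ?_)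
      rw [Subgroup.mem_normalizer_iff_map_conj_eq, MonoidHom.map_closure]
      congr 1
      ext y
      constructor
      · rintro ⟨z, ⟨k, b, hb, rfl⟩, rfl⟩
        exact ⟨g * k, b, hb, by simp [mul_assoc]⟩
      · rintro ⟨k, b, hb, rfl⟩
        exact ⟨g⁻¹ * (k * b * k⁻¹) * g, ⟨g⁻¹ * k, b, hb, by group⟩, by simp [mul_assoc]⟩
    have hpair : ∀ x ∈ S, ∀ y ∈ S, Commute x y := by
      rintro _ ⟨k, a, ha, rfl⟩ _ ⟨k', b, hb, rfl⟩
      have h1 : Commute a (k⁻¹ * k' * b * (k⁻¹ * k')⁻¹) := hall _ a ha b hb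
      have h2 := h1.map (MulAut.conj k).toMonoidHom
      simpa [mul_assoc] using h2
    have hcl : ∀ x ∈ Subgroup.closure S, ∀ y ∈ Subgroup.closure S, x * y = y * x := by
      intro x hx y hy
      haveI := Subgroup.isMulCommutative_closure hpair
      exact congrArg Subtype.val
        (mul_comm' (⟨x, hx⟩ : Subgroup.closure S) ⟨y, hy⟩)
    have hpel : ∀ x ∈ Subgroup.closure S, IsPElt p x := by
      intro x hx
      induction hx using Subgroup.closure_induction with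
      | mem y hy => obtain ⟨k, b, hb, rfl⟩ := hy; exact (hA b hb).conj k
      | one => exact ⟨0, one_pow _⟩
      | mul y z hy hz ihy ihz =>
        obtain ⟨i, hi⟩ := ihy
        obtain ⟨j, hj⟩ := ihz
        refine ⟨i + j, ?_⟩
        rw [Commute.mul_pow (hcl y hy z hz), pow_add, pow_mul, hi, one_pow, one_mul, mul_comm,
          pow_mul, hj, one_pow]
      | inv y hy ih => obtain ⟨i, hi⟩ := ih; exact ⟨i, by rw [inv_pow, hi, inv_one]⟩
    rw [← h.normal_eq_bot _ hpel hcl]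
    exact fun x hx => Subgroup.subset_closure ⟨1, x, hx, by simp⟩
  set A' := A.map (MulAut.conj g).toMonoidHom with hA'
  set L := A ⊔ A' with hL
  have hAL : A ≤ L := le_sup_left
  have hbL : g * b * g⁻¹ ∈ L := Subgroup.mem_sup_right ⟨b, hb, rfl⟩
  haveI := Fintype.ofFinite L
  obtain ⟨k, ρ, hρ, hρχ⟩ := id h.irr
  have hk : k = n := by rw [← h.deg, ← hρχ, H12.degree_character, finrank_fin_fun]
  -- a common eigenvector
  obtain ⟨v, hv0, hv⟩ : ∃ v : Fin k → ℂ, v ≠ 0 ∧ ∀ x ∈ L, ∃ c : ℂ, ρ x v = c • v := by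
    have hinj : Function.Injective (ρ g) := fun x y hxy => by
      have := congrArg (ρ g⁻¹) hxy
      rwa [← Module.End.mul_apply, ← Module.End.mul_apply, ← map_mul, inv_mul_cancel, map_one,
        Module.End.one_apply, Module.End.one_apply] at this
    rw [← hρχ, mu_eq_finrank] at hl
    set E := esp ρ A.subtype l with hE
    set E' := E.map (ρ g)
    have hfr : finrank ℂ E' = finrank ℂ E :=
      (Submodule.equivMapOfInjective _ hinj E).symm.finrank_eq
    have hne : E ⊓ E' ≠ ⊥ := by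
      intro he
      have h1 := Submodule.finrank_sup_add_finrank_inf_eq E E'
      rw [he, finrank_bot, hfr] at h1
      have h2 := Submodule.finrank_le (E ⊔ E')
      rw [finrank_fin_fun] at h2
      have := h.small
      omega
    obtain ⟨v, hv, hv0⟩ := Submodule.exists_mem_ne_zero_of_ne_bot hne
    obtain ⟨hv1, w, hw, rfl⟩ := hv
    refine ⟨_, hv0, fun x hx => ?_⟩
    rw [hL, Subgroup.sup_eq_closure] at hx
    induction hx using Subgroup.closure_induction with
    | mem y hy =>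
      rcases hy with hy | hy
      · exact ⟨_, mem_esp.1 hv1 ⟨y, hy⟩⟩
      · obtain ⟨c, hc, rfl⟩ := hy
        refine ⟨(l ⟨c, hc⟩ : ℂ), ?_⟩
        show ρ (g * c * g⁻¹) (ρ g w) = _
        rw [← Module.End.mul_apply, ← map_mul, inv_mul_cancel_right, map_mul,
          Module.End.mul_apply, show ρ c w = (l ⟨c, hc⟩ : ℂ) • w from mem_esp.1 hw ⟨c, hc⟩,
          map_smul]
    | one => exact ⟨1, by simp⟩
    | mul y z _ _ ihy ihz =>
      obtain ⟨c, hc⟩ := ihy
      obtain ⟨d, hd⟩ := ihz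
      exact ⟨d * c, by rw [map_mul, Module.End.mul_apply, hd, map_smul, hc, smul_smul]⟩
    | inv y _ ih =>
      obtain ⟨c, hc⟩ := ih
      have hc0 : c ≠ 0 := fun hc0 => hv0 (by
        have h1 : ρ y⁻¹ (ρ y (ρ g w)) = ρ g w := by
          rw [← Module.End.mul_apply, ← map_mul, inv_mul_cancel, map_one, Module.End.one_apply]
        rw [hc, hc0, zero_smul, map_zero] at h1
        exact h1.symm)
      refine ⟨c⁻¹, ?_⟩
      have h1 : ρ y⁻¹ (ρ y (ρ g w)) = ρ g w := by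
        rw [← Module.End.mul_apply, ← map_mul, inv_mul_cancel, map_one, Module.End.one_apply]
      rw [hc, map_smul] at h1
      exact (eq_inv_smul_iff₀ hc0).2 h1
  have hχL : IsCharacter L (fun x : L => χ x) :=
    H12.IsCharacter.res (H12.isCharacter_of_isIrrCharacter h.irr) L
  obtain ⟨m, hm⟩ := H12.IsCharacter.exists_mult hχL
  have hdegL : H12.degree (fun x : L => χ x) = n := by rw [← h.deg]; rfl
  set a' : L := ⟨a, hAL ha⟩ with ha'
  set b' : L := ⟨g * b * g⁻¹, hbL⟩ with hb'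
  obtain ⟨φ, hφ, hφab⟩ : ∃ φ : IrrCharacter L, m φ ≠ 0 ∧
      a' * b' * (b' * a')⁻¹ ∉ H24.kerChar φ := by
    by_contra! hall
    refine hab (mul_inv_eq_one.1 (h.faith _ ?_))
    have h1 : (fun x : L => χ x) (a' * b' * (b' * a')⁻¹) = (fun x : L => χ x) 1 := by
      rw [hm, Finset.sum_apply, Finset.sum_apply]
      refine Finset.sum_congr rfl fun ψ _ => ?_
      rcases Nat.eq_zero_or_pos (m ψ) with h0 | h0
      · simp [h0]
      · simp only [Pi.smul_apply]
        rw [H24.mem_kerChar.1 (hall ψ h0.ne')]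
    exact h1
  have hpa : IsPElt p a' := (hA a ha).of_map L.subtype L.subtype_injective
  have hpb : IsPElt p b' := ((hA b hb).conj g).of_map L.subtype L.subtype_injective
  have hbig : p ≤ 2 * H12.degree (φ : L → ℂ) + 1 := by
    by_contra hlt
    exact hφab (commute_mem_ker φ (by omega) hpa hpb)
  obtain ⟨hm1, hrest⟩ := small_of_ne hχL hm (by rw [hdegL]; exact h.small) hφ hbig
  have hle : H12.degree (φ : L → ℂ) ≤ n := by
    rw [← hdegL, degree_le_of_sum hχL hm]
    exact (Nat.le_mul_of_pos_left _ (Nat.pos_of_ne_zero hφ)).trans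
      (Finset.single_le_sum (f := fun i : IrrCharacter L => m i * H12.degree (i : L → ℂ))
        (fun i _ => Nat.zero_le _) (Finset.mem_univ φ))
  have hlt : H12.degree (φ : L → ℂ) < n := by
    refine lt_of_le_of_ne hle fun he => ?_
    have hzero : ∀ ψ, ψ ≠ φ → m ψ = 0 := fun ψ hψ => by
      by_contra h0
      have h1 := (hrest ψ hψ h0).2
      have h2 := Nat.mul_pos (Nat.pos_of_ne_zero h0) (H12.irr_degree_pos ψ)
      rw [hdegL, he] at h1
      omega
    let σ : Representation ℂ L (Fin k → ℂ) := ρ.comp L.subtype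
    have hσ : σ.character = (φ : L → ℂ) := funext fun y => by
      have h1 := congrFun hm y
      rw [Finset.sum_apply, Finset.sum_eq_single φ (fun i _ hi => by simp [hzero i hi]) (by simp),
        hm1, Nat.cast_one, one_smul] at h1
      rw [← h1, ← hρχ]
      rfl
    haveI := H15.HalfDeg.isIrreducible_of_irr σ φ hσ
    have h2 := H13.eq_top_of_irreducible σ (ℂ ∙ v) (fun x w hw => by
      obtain ⟨c, rfl⟩ := Submodule.mem_span_singleton.1 hw
      obtain ⟨d, hd⟩ := hv x x.2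
      refine Submodule.mem_span_singleton.2 ⟨c * d, ?_⟩
      show _ = ρ (x : G) (c • v)
      rw [map_smul, hd, smul_smul]) (by simpa using hv0)
    have h3 := finrank_span_singleton (K := ℂ) hv0
    rw [h2, finrank_top, finrank_fin_fun] at h3
    have := h.one_lt
    omega
  have hApg : IsPGroup p (A.subgroupOf L) := fun x => by
    obtain ⟨i, hi⟩ := hA _ x.2
    exact ⟨i, Subtype.ext (Subtype.ext hi)⟩
  obtain ⟨R, hR⟩ := hApg.exists_le_sylow
  have hne : prj φ a' * prj φ b' ≠ prj φ b' * prj φ a' := fun he => hφab (by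
    rw [← map_mul, ← map_mul] at he
    have h1 := mul_inv_eq_one.2 he
    rw [← map_inv, ← map_mul] at h1
    exact (QuotientGroup.eq_one_iff _).1 h1)
  have hn : ¬ ((R : Subgroup L).map (prj φ)).Normal := fun hN =>
    hne (image_commute φ (by have := h.small; omega) R hN hpa hpb)
  refine ⟨L, hAL, φ, m, R, hm, hφ, hbig, hlt, hn, hR, ⟨⟨a, ha⟩, fun hc => hne ?_⟩, ?_⟩
  · exact (Subgroup.mem_center_iff.1 hc (prj φ b')).symm
  intro ψ hψ hψ0
  -- a small constituent has abelian image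
  have hsm := (hrest ψ hψ hψ0).1
  have hall : ∀ x y : L, prj ψ x * prj ψ y = prj ψ y * prj ψ x := by
    set S : Set L := {x | (x : G) ∈ A ∨ (x : G) ∈ A'} with hS
    have hgen : Subgroup.closure S = ⊤ := by
      refine Subgroup.map_injective L.subtype_injective ?_
      rw [MonoidHom.map_closure, ← MonoidHom.range_eq_map, Subgroup.range_subtype]
      refine le_antisymm ?_ (sup_le ?_ ?_)
      · rw [Subgroup.closure_le]
        rintro _ ⟨x, -, rfl⟩
        exact x.2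
      · exact fun x hx => Subgroup.subset_closure ⟨⟨x, hAL hx⟩, Or.inl hx, rfl⟩
      · exact fun x hx => Subgroup.subset_closure
          ⟨⟨x, Subgroup.mem_sup_right hx⟩, Or.inr hx, rfl⟩
    have hpS : ∀ x ∈ S, IsPElt p x := by
      rintro x (hx | ⟨c, hc, hcx⟩)
      · exact (hA _ hx).of_map L.subtype L.subtype_injective
      · refine IsPElt.of_map L.subtype L.subtype_injective ?_
        rw [Subgroup.coe_subtype, ← hcx]
        exact (hA c hc).map _
    have hSS : ∀ x ∈ S, ∀ y ∈ S, Commute (prj ψ x) (prj ψ y) := fun x hx y hy => by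
      show prj ψ x * prj ψ y = prj ψ y * prj ψ x
      rw [← map_mul, ← map_mul, ← mul_inv_eq_one, ← map_inv, ← map_mul]
      exact (QuotientGroup.eq_one_iff _).2 (commute_mem_ker ψ hsm (hpS x hx) (hpS y hy))
    have hpair : ∀ x ∈ (prj ψ) '' S, ∀ y ∈ (prj ψ) '' S, Commute x y := by
      rintro _ ⟨x, hx, rfl⟩ _ ⟨y, hy, rfl⟩
      exact hSS x hx y hy
    haveI := Subgroup.isMulCommutative_closure hpair
    intro x y
    have hmem : ∀ z : L, prj ψ z ∈ Subgroup.closure ((prj ψ) '' S) := fun z => by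
      rw [← MonoidHom.map_closure, hgen]
      exact Subgroup.mem_map_of_mem _ (Subgroup.mem_top z)
    exact congrArg Subtype.val
      (mul_comm' (⟨_, hmem x⟩ : Subgroup.closure ((prj ψ) '' S)) ⟨_, hmem y⟩)
  rw [commutator_def]
  refine Subgroup.commutator_le.2 fun x _ y _ => (QuotientGroup.eq_one_iff _).1 ?_
  show prj ψ ⁅x, y⁆ = 1
  rw [map_commutatorElement, commutatorElement_eq_one_iff_mul_comm]
  exact hall x y

/-- Multiplicities of a subgroup through an intermediate subgroup. -/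
theorem mu_via (h : Ctx p χ n) {L A : Subgroup G} [Fintype A] (hAL : A ≤ L)
    {m : IrrCharacter L → ℕ} (hm : (fun x : L => χ x) = ∑ ψ, (m ψ : ℂ) • (ψ : L → ℂ))
    (l : A →* ℂˣ) :
    mu χ A.subtype l = ∑ ψ, m ψ * mu (ψ : L → ℂ) (Subgroup.inclusion hAL) l := by
  rw [← mu_sum (H12.IsCharacter.res (H12.isCharacter_of_isIrrCharacter h.irr) L) hm]
  rfl

/-- Two eigencharacters, one of large multiplicity, do not occur. -/
theorem Ctx.eq_bot_of_two (h : Ctx p χ n) (A : Subgroup G) [Fintype A]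
    (hA : ∀ x ∈ A, IsPElt p x) (hAc : ∀ x ∈ A, ∀ y ∈ A, x * y = y * x)
    (l₁ l₂ : A →* ℂˣ) (h1 : p ≤ 2 * mu χ A.subtype l₁ + 1)
    (h2 : ∀ l, l ≠ l₁ → l ≠ l₂ → mu χ A.subtype l = 0) : A = ⊥ := by
  classical
  by_contra hA1
  obtain ⟨L, hAL, φ, m, R, hm, hφ, hbig, hlt, hn, hR, hne, -⟩ :=
    h.exists_witness A hA hAc hA1 l₁ h1
  haveI : Finite (A →* ℂˣ) := Finite.of_injective H12.linIrr H12.linIrr_injective
  haveI := Fintype.ofFinite (A →* ℂˣ)
  have hfree := (h.image_data φ hlt R hn).1 A (Subgroup.inclusion hAL)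
    (fun a => hR (Subgroup.mem_subgroupOf.2 a.2)) hne
  have hsum := (sum_mu (fun a b : A => Subtype.ext (hAc a a.2 b b.2)) (H12.isCharacter_irr φ)
    (Subgroup.inclusion hAL)).1
  have hzero : ∀ l ∈ (Finset.univ : Finset (A →* ℂˣ)), l ∉ ({l₁, l₂} : Finset (A →* ℂˣ)) →
      mu (φ : L → ℂ) (Subgroup.inclusion hAL) l = 0 := by
    intro l _ hl
    rw [Finset.mem_insert, Finset.mem_singleton, not_or] at hl
    have h3 := mu_via h hAL hm l
    rw [h2 l hl.1 hl.2] at h3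
    exact (Nat.mul_eq_zero.1 (Finset.sum_eq_zero_iff.1 h3.symm φ (Finset.mem_univ φ))).resolve_left hφ
  rw [← Finset.sum_subset (Finset.subset_univ ({l₁, l₂} : Finset (A →* ℂˣ))) hzero] at hsum
  have h4 := Finset.sum_le_card_nsmul ({l₁, l₂} : Finset (A →* ℂˣ))
    (fun l => mu (φ : L → ℂ) (Subgroup.inclusion hAL) l) 1 (fun l _ => hfree l)
  have h5 := (Finset.card_insert_le l₁ ({l₂} : Finset (A →* ℂˣ)))
  rw [Finset.card_singleton] at h5
  rw [smul_eq_mul, mul_one] at h4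
  have := h.seven
  omega

/-- Homomorphisms of a cyclic subgroup agree when they agree at the generator. -/
theorem hom_zpowers_ext {x : G} {l l' : Subgroup.zpowers x →* ℂˣ}
    (he : l ⟨x, Subgroup.mem_zpowers x⟩ = l' ⟨x, Subgroup.mem_zpowers x⟩) : l = l' := by
  refine MonoidHom.ext fun y => ?_
  obtain ⟨i, hi⟩ := Subgroup.mem_zpowers_iff.1 y.2
  have hy : y = (⟨x, Subgroup.mem_zpowers x⟩ : Subgroup.zpowers x) ^ i := Subtype.ext (by simp [hi])
  rw [hy, map_zpow, map_zpow, he]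

/-- No nontrivial `p`-subgroup has an eigencharacter of large multiplicity. -/
theorem Ctx.eq_bot_of_mult (h : Ctx p χ n) (A : Subgroup G) [Fintype A]
    (hA : ∀ x ∈ A, IsPElt p x) (hAc : ∀ x ∈ A, ∀ y ∈ A, x * y = y * x)
    (l : A →* ℂˣ) (hl : p ≤ 2 * mu χ A.subtype l + 1) : A = ⊥ := by
  classical
  by_contra hA1
  obtain ⟨L, hAL, φ, m, R, hm, hφ, hbig, hlt, hn, hR, ⟨a₀, ha₀⟩, hker⟩ :=
    h.exists_witness A hA hAc hA1 l hl
  haveI := Fintype.ofFinite L
  have hχL : IsCharacter L (fun x : L => χ x) :=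
    H12.IsCharacter.res (H12.isCharacter_of_isIrrCharacter h.irr) L
  have hdegL : H12.degree (fun x : L => χ x) = n := by rw [← h.deg]; rfl
  obtain ⟨hm1, hrest⟩ := small_of_ne hχL hm (by rw [hdegL]; exact h.small) hφ hbig
  obtain ⟨hfree, hfix, ⟨y, hyR, hyD, hy1⟩, hgen⟩ := h.image_data φ hlt R hn
  haveI : Finite (A →* ℂˣ) := Finite.of_injective H12.linIrr H12.linIrr_injective
  haveI := Fintype.ofFinite (A →* ℂˣ)
  have hcA : ∀ a b : A, a * b = b * a := fun a b => Subtype.ext (hAc a a.2 b b.2)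
  set ι := Subgroup.inclusion hAL with hι
  have hιR : ∀ a : A, ι a ∈ (R : Subgroup L) := fun a => hR (Subgroup.mem_subgroupOf.2 a.2)
  have hF1 : ∀ l' : A →* ℂˣ, mu (φ : L → ℂ) ι l' ≤ 1 := hfree A ι hιR ⟨a₀, ha₀⟩
  have hFsum := (sum_mu hcA (H12.isCharacter_irr φ) ι).1
  have hMsum := (sum_mu hcA (H12.isCharacter_of_isIrrCharacter h.irr) A.subtype).1
  rw [h.deg, ← Finset.add_sum_erase _ _ (Finset.mem_univ l)] at hMsum
  rw [← Finset.add_sum_erase _ _ (Finset.mem_univ l)] at hFsum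
  have hle : ∀ l' : A →* ℂˣ, mu (φ : L → ℂ) ι l' ≤ mu χ A.subtype l' := fun l' => by
    rw [mu_via h hAL hm]
    exact (Nat.le_mul_of_pos_left _ (Nat.pos_of_ne_zero hφ)).trans
      (Finset.single_le_sum (f := fun ψ : IrrCharacter L => m ψ * mu (ψ : L → ℂ) ι l')
        (fun _ _ => Nat.zero_le _) (Finset.mem_univ φ))
  have hsum_le := Finset.sum_le_sum (s := Finset.univ.erase l) fun l' _ => hle l'
  have hodd : ∃ q, p = 2 * q + 1 := by
    obtain ⟨q, hq⟩ := (hp.out.odd_of_ne_two (by have := h.seven; omega))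
    exact ⟨q, hq⟩
  obtain ⟨q, hq⟩ := hodd
  have hFl := hF1 l
  have hsmall := h.small
  have hseven := h.seven
  have hFl1 : mu (φ : L → ℂ) ι l = 1 := by omega
  have hdφ : 2 * H12.degree (φ : L → ℂ) + 1 = p := by omega
  have hn2 : n + 2 = p := by omega
  have heq : ∀ l' ∈ Finset.univ.erase l, mu (φ : L → ℂ) ι l' = mu χ A.subtype l' :=
    (Finset.sum_eq_sum_iff_of_le fun l' _ => hle l').1 (by omega)
  -- the complement is acted on by `l`
  have hzero : ∀ ψ, ψ ≠ φ → m ψ ≠ 0 → ∀ a : A, (ψ : L → ℂ) (ι a) = (l a : ℂ) * (ψ : L → ℂ) 1 := by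
    intro ψ hψ hψ0 a
    have h0 : ∀ l' ∈ (Finset.univ : Finset (A →* ℂˣ)), l' ≠ l → mu (ψ : L → ℂ) ι l' = 0 := by
      intro l' _ hl'
      have h1 : mu χ A.subtype l' = ∑ ψ, m ψ * mu (ψ : L → ℂ) ι l' := mu_via h hAL hm l'
      rw [← heq l' (Finset.mem_erase.2 ⟨hl', Finset.mem_univ l'⟩),
        ← Finset.add_sum_erase _ _ (Finset.mem_univ φ), hm1, one_mul] at h1
      have h2 : ∑ i ∈ Finset.univ.erase φ, m i * mu (i : L → ℂ) ι l' = 0 := by omega
      exact (Nat.mul_eq_zero.1 (Finset.sum_eq_zero_iff.1 h2 ψ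
        (Finset.mem_erase.2 ⟨hψ, Finset.mem_univ ψ⟩))).resolve_left hψ0
    obtain ⟨h1, h2⟩ := sum_mu hcA (H12.isCharacter_irr ψ) ι
    rw [Finset.sum_eq_single l h0 (fun hh => absurd (Finset.mem_univ l) hh)] at h1
    rw [h2, Finset.sum_eq_single l (fun l' hl' hne => by rw [h0 l' hl' hne]; simp)
      (fun hh => absurd (Finset.mem_univ l) hh), h1, H12.irr_apply_one]
    ring
  obtain ⟨ψ₀, hψ₀, hψ₀0⟩ : ∃ ψ, ψ ≠ φ ∧ m ψ ≠ 0 := by
    by_contra! hno
    have h1 := degree_le_of_sum hχL hm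
    rw [hdegL, Finset.sum_eq_single φ (fun i _ hi => by rw [hno i hi, zero_mul]) (by simp), hm1,
      one_mul] at h1
    omega
  obtain ⟨i, hi⟩ := hgen (ι a₀) (hιR a₀) ha₀ y hyR
  set a₁ : A := a₀ ^ i with ha₁
  rw [← map_zpow, ← ha₁] at hi
  set z : L := (ι a₁)⁻¹ * y with hz
  have hzR : z ∈ (R : Subgroup L) := mul_mem (inv_mem (hιR a₁)) hyR
  set B := Subgroup.zpowers (z : G) with hB
  haveI := Fintype.ofFinite B
  have hBL : B ≤ L := Subgroup.zpowers_le.2 z.2
  have hBc : ∀ a b : B, a * b = b * a := fun a b => by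
    obtain ⟨s, hs⟩ := Subgroup.mem_zpowers_iff.1 a.2
    obtain ⟨t, ht⟩ := Subgroup.mem_zpowers_iff.1 b.2
    exact Subtype.ext (by push_cast; rw [← hs, ← ht, ← zpow_add, ← zpow_add, add_comm])
  set κ := Subgroup.inclusion hBL with hκ
  have hκv : ∀ b : B, ∃ t : ℤ, κ b = z ^ t := fun b => by
    obtain ⟨t, ht⟩ := Subgroup.mem_zpowers_iff.1 b.2
    exact ⟨t, Subtype.ext (by rw [Subgroup.coe_zpow, ht]; rfl)⟩
  have hscal : ∀ ψ : IrrCharacter L, prj ψ z ∈ Subgroup.center (L ⧸ H24.kerChar ψ) →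
      ∃ lψ : B →* ℂˣ, (∀ l', l' ≠ lψ → mu (ψ : L → ℂ) κ l' = 0) ∧
        mu (ψ : L → ℂ) κ lψ = H12.degree (ψ : L → ℂ) ∧
        (ψ : L → ℂ) z = (lψ ⟨z, Subgroup.mem_zpowers _⟩ : ℂ) * (ψ : L → ℂ) 1 := by
    intro ψ hc
    obtain ⟨ψ', hψ'⟩ := H24.exists_deflate (H24.kerChar ψ) ψ le_rfl
    obtain ⟨lψ, h1, h2⟩ := exists_mu_central ψ'.2 hBc ((prj ψ).comp κ) fun b g => by
      obtain ⟨t, ht⟩ := hκv b
      rw [MonoidHom.comp_apply, ht, map_zpow]
      exact Subgroup.mem_center_iff.1 (zpow_mem hc t) g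
    have h1' : mu (ψ : L → ℂ) κ lψ = H12.degree (ψ : L → ℂ) := by
      rw [← hψ']
      exact h1
    refine ⟨lψ, fun l' hl' => ?_, h1', ?_⟩
    · haveI : Finite (B →* ℂˣ) := Finite.of_injective H12.linIrr H12.linIrr_injective
      haveI := Fintype.ofFinite (B →* ℂˣ)
      have h3 := (sum_mu hBc (H12.isCharacter_irr ψ) κ).1
      rw [← Finset.add_sum_erase _ _ (Finset.mem_univ lψ), h1'] at h3
      exact Finset.sum_eq_zero_iff.1 (by omega : ∑ x ∈ Finset.univ.erase lψ,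
        mu (ψ : L → ℂ) κ x = 0) l' (Finset.mem_erase.2 ⟨hl', Finset.mem_univ l'⟩)
    · rw [← hψ']
      exact h2 ⟨z, Subgroup.mem_zpowers _⟩
  have hψc : ∀ ψ, ψ ≠ φ → m ψ ≠ 0 → prj ψ z ∈ Subgroup.center (L ⧸ H24.kerChar ψ) := by
    intro ψ hψ hψ0
    refine Subgroup.mem_center_iff.2 fun w => ?_
    obtain ⟨w', rfl⟩ := QuotientGroup.mk'_surjective _ w
    rw [← commutatorElement_eq_one_iff_mul_comm, ← map_commutatorElement]
    exact (QuotientGroup.eq_one_iff _).2 (hker ψ hψ hψ0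
      (Subgroup.commutator_mem_commutator (Subgroup.mem_top _) (Subgroup.mem_top _)))
  have hψz : ∀ ψ, ψ ≠ φ → m ψ ≠ 0 →
      (ψ : L → ℂ) z = (l a₁⁻¹ : ℂ) * (ψ : L → ℂ) 1 := by
    intro ψ hψ hψ0
    rw [hz, H24.irr_mul_of_mem_ker ψ _ _ (hker ψ hψ hψ0 hyD), ← map_inv]
    exact hzero ψ hψ hψ0 a₁⁻¹
  obtain ⟨lc, hlc, hlc', -⟩ := hscal φ hi
  obtain ⟨l₂, -, -, hl₂⟩ := hscal ψ₀ (hψc ψ₀ hψ₀ hψ₀0)
  have hz1 : (z : G) = 1 := by
    have hBpel : ∀ x ∈ B, IsPElt p x := by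
      intro x hx
      obtain ⟨t, rfl⟩ := Subgroup.mem_zpowers_iff.1 hx
      obtain ⟨k, hk⟩ := pelt_of_mem hzR
      exact ⟨k, by rw [← zpow_natCast, ← zpow_mul, mul_comm, zpow_mul, zpow_natCast, hk, one_zpow]⟩
    have hBbot := h.eq_bot_of_two B hBpel (fun a ha b hb => congrArg Subtype.val
      (hBc ⟨a, ha⟩ ⟨b, hb⟩)) lc l₂ ?_ ?_
    · exact (Subgroup.eq_bot_iff_forall B).1 hBbot _ (Subgroup.mem_zpowers _)
    · rw [mu_via h hBL hm, ← hκ]
      have h1 := Finset.single_le_sum (f := fun ψ : IrrCharacter L => m ψ * mu (ψ : L → ℂ) κ lc)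
        (fun _ _ => Nat.zero_le _) (Finset.mem_univ φ)
      rw [hm1, one_mul, hlc'] at h1
      omega
    · intro l' hl1 hl2
      rw [mu_via h hBL hm]
      refine Finset.sum_eq_zero fun ψ _ => ?_
      rcases Nat.eq_zero_or_pos (m ψ) with h0 | h0
      · rw [h0, zero_mul]
      · by_cases hψ : ψ = φ
        · subst hψ; rw [hlc l' hl1, mul_zero]
        · obtain ⟨lψ, hlψ, -, hlψv⟩ := hscal ψ (hψc ψ hψ h0.ne')
          have h1 : (lψ ⟨z, Subgroup.mem_zpowers _⟩ : ℂ) =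
              (l₂ ⟨z, Subgroup.mem_zpowers _⟩ : ℂ) := by
            rw [mul_right_cancel₀ (H12.irr_apply_one_ne_zero ψ)
                (hlψv.symm.trans (hψz ψ hψ h0.ne')),
              mul_right_cancel₀ (H12.irr_apply_one_ne_zero ψ₀)
                (hl₂.symm.trans (hψz ψ₀ hψ₀ hψ₀0))]
          have h2 : lψ = l₂ := hom_zpowers_ext (Units.ext h1)
          rw [hlψ l' (h2 ▸ hl2), mul_zero]
  -- so `y` lies in `A` and fixes no vector, yet `l` is trivial on it
  have hya : y = ι a₁ := by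
    have h1 : z = 1 := Subtype.ext hz1
    rw [hz, inv_mul_eq_one] at h1
    exact h1.symm
  have hla : l a₁ = 1 := by
    have h1 := hzero ψ₀ hψ₀ hψ₀0 a₁
    rw [← hya, H24.mem_kerChar.1 (hker ψ₀ hψ₀ hψ₀0 hyD)] at h1
    refine Units.ext (mul_right_cancel₀ (H12.irr_apply_one_ne_zero ψ₀) ?_)
    rw [Units.val_one, one_mul]
    exact h1.symm
  haveI := Fintype.ofFinite (Subgroup.zpowers a₁)
  have h0 := hfix hdφ (Subgroup.zpowers a₁) (ι.comp (Subgroup.zpowers a₁).subtype) (fun b => by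
      obtain ⟨t, ht⟩ := Subgroup.mem_zpowers_iff.1 b.2
      rw [MonoidHom.comp_apply, Subgroup.coe_subtype, ← ht, map_zpow, ← hya]
      exact ⟨zpow_mem hyR t, zpow_mem hyD t⟩)
    ⟨⟨a₁, Subgroup.mem_zpowers _⟩, by
      rw [MonoidHom.comp_apply, Subgroup.coe_subtype, ← hya]; exact hy1⟩
  have h1 := mu_mono (H12.isCharacter_irr φ) ι l (Subgroup.zpowers a₁).subtype
  have hl1 : l.comp (Subgroup.zpowers a₁).subtype = 1 := by
    refine hom_zpowers_ext ?_
    rw [MonoidHom.comp_apply, Subgroup.coe_subtype, MonoidHom.one_apply]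
    exact hla
  rw [hl1, h0, hFl1] at h1
  exact absurd h1 (by omega)

end H14.SmallDeg
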