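import Cfsg.Agent.H14.SmallDeg.SmallPrimes
import Cfsg.Agent.H15.Degree.Main

/-!
Faithful irreducible characters of degree below twenty-seven and primes above the degree plus one,
relative to the identifications at `(5, 3)`, `(7, 4)` and of the large primes.
-/

set_option autoImplicit false
set_option linter.style.haveILetI false
set_option linter.unusedSectionVars false

open Cfsg
open scoped ComplexConjugate

namespace H14.SmallDeg

universe u

/-- The reduction data as consumed by the case analysis. -/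
def Reduced (p d : ℕ) [Fact p.Prime] (G : Type u) [Group G] : Prop :=
  ∃ (K : Subgroup G) (_ : K.Normal), K ≤ Subgroup.center G ∧
    (∀ g : G, (g : G ⧸ K) ∈ Subgroup.center (G ⧸ K) → g ∈ Subgroup.center G) ∧
    ∃ Q : Sylow p (G ⧸ K), Nat.card Q = p ∧ ¬ (Q : Subgroup (G ⧸ K)).Normal ∧
      ∃ ζ : G ⧸ K → ℂ, IsIrrCharacter (G ⧸ K) ζ ∧ (∀ g, ζ g = ζ 1 → g = 1) ∧ H12.degree ζ = d

theorem reduced_of {G : Type u} [Group G] [Finite G] {p d : ℕ} [Fact p.Prime] (hp7 : 7 ≤ p)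
    (P : Sylow p G) (hnn : ¬ (P : Subgroup G).Normal) (χ : G → ℂ) (hχ : IsIrrCharacter G χ)
    (hfaith : ∀ g : G, χ g = χ 1 → g = 1) (hdeg : H12.degree χ = d) (hd : d + 1 < p) :
    Reduced p d G := by
  subst hdeg
  exact exists_reduced hp7 P hnn χ hχ hfaith hd

/-- The classification, relative to the three identifications. -/
theorem classify {G : Type u} [Group G] [Finite G] (d : ℕ) (hd : d < 27) (χ : G → ℂ)
    (hχ : IsIrrCharacter G χ) (hdeg : H12.degree χ = d) (hfaith : ∀ g : G, χ g = χ 1 → g = 1)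
    (p : ℕ) [Fact p.Prime] (hp : d + 1 < p) (P : Sylow p G)
    (hlarge : 7 < p → ¬ (P : Subgroup G).Normal → Reduced p d G →
      (Nonempty (G ⧸ Subgroup.center G ≃* Matrix.ProjectiveSpecialLinearGroup (Fin 2) (ZMod p)) ∧
          (2 * d = p + 1 ∨ 2 * d = p - 1)) ∨
        (p = 17 ∧ d = 15 ∧ ∃ (A : Type) (_ : CommGroup A) (_ : Finite A),
          Nonempty (G ≃* Matrix.SpecialLinearGroup (Fin 2) (GaloisField 2 4) × A)))
    (hfive : ∀ (A : Type u) [Group A] [Finite A] (q : ℕ) [Fact q.Prime], q = 5 →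
      ∀ Q : Sylow q A, Nat.card Q = q → ¬ (Q : Subgroup A).Normal → ∀ ζ : A → ℂ,
      IsIrrCharacter A ζ → (∀ g, ζ g = ζ 1 → g = 1) → H12.degree ζ = 3 →
      Nonempty ((A ⧸ Subgroup.center A) ≃* Matrix.ProjectiveSpecialLinearGroup (Fin 2) (ZMod 5)) ∨
        Nonempty ((A ⧸ Subgroup.center A) ≃* ↥(alternatingGroup (Fin 6))))
    (hseven : ∀ (A : Type u) [Group A] [Finite A] (q : ℕ) [Fact q.Prime], q = 7 →
      ∀ Q : Sylow q A, Nat.card Q = q → ¬ (Q : Subgroup A).Normal → ∀ ζ : A → ℂ,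
      IsIrrCharacter A ζ → (∀ g, ζ g = ζ 1 → g = 1) → H12.degree ζ = 4 →
      Nonempty ((A ⧸ Subgroup.center A) ≃* Matrix.ProjectiveSpecialLinearGroup (Fin 2) (ZMod 7)) ∨
        Nonempty ((A ⧸ Subgroup.center A) ≃* ↥(alternatingGroup (Fin 7)))) :
    (P : Subgroup G).Normal ∨
      (Nonempty (G ⧸ Subgroup.center G ≃* Matrix.ProjectiveSpecialLinearGroup (Fin 2) (ZMod p)) ∧
        (2 * d = p + 1 ∨ 2 * d = p - 1)) ∨
      (p = 17 ∧ d = 15 ∧ ∃ (A : Type) (_ : CommGroup A) (_ : Finite A),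
        Nonempty (G ≃* Matrix.SpecialLinearGroup (Fin 2) (GaloisField 2 4) × A)) ∨
      (p = 7 ∧ d = 4 ∧ Nonempty (G ⧸ Subgroup.center G ≃* ↥(alternatingGroup (Fin 7)))) ∨
      (p = 5 ∧ d = 3 ∧ Nonempty (G ⧸ Subgroup.center G ≃* ↥(alternatingGroup (Fin 6)))) := by
  refine or_iff_not_imp_left.2 fun hnn => ?_
  rcases Nat.lt_or_ge 7 p with h7 | h7
  · rcases hlarge h7 hnn (reduced_of (by omega) P hnn χ hχ hfaith hdeg hp) with h | h
    · exact Or.inl h
    · exact Or.inr (Or.inl h)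
  · rcases small_primes χ hχ hfaith hdeg hp h7 P hnn hfive hseven with h | h | h
    · exact Or.inl h
    · exact Or.inr (Or.inr (Or.inl h))
    · exact Or.inr (Or.inr (Or.inr h))

end H14.SmallDeg
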