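import Cfsg.Agent.H12.Linear
import Cfsg.Agent.H24.Quot
import Cfsg.Agent.H15.HalfDeg.Main

/-!
Multiplicities of linear characters of an abelian group mapped into a group, in a character and
as joint eigenspaces.
-/

set_option autoImplicit false
set_option linter.unusedSectionVars false
set_option linter.style.haveILetI false

open Cfsg Module
open scoped ComplexConjugate

namespace H14.SmallDeg

universe u v w

variable {G : Type u} [Group G] {A : Type v} [Group A] [Fintype A]

/-- The multiplicity of the linear character `l` in a character pulled back along `f`. -/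
noncomputable def mu (χ : G → ℂ) (f : A →* G) (l : A →* ℂˣ) : ℕ :=
  ⌊(classInner (fun a : A => χ (f a)) (fun a => (l a : ℂ))).re⌋₊

variable {V : Type w} [AddCommGroup V] [Module ℂ V] [FiniteDimensional ℂ V]

/-- The joint eigenspace of the image of `f` belonging to `l`. -/
noncomputable def esp (ρ : Representation ℂ G V) (f : A →* G) (l : A →* ℂˣ) : Submodule ℂ V :=
  ⨅ a : A, Module.End.eigenspace (ρ (f a)) (l a : ℂ)

theorem mem_esp {ρ : Representation ℂ G V} {f : A →* G} {l : A →* ℂˣ} {v : V} :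
    v ∈ esp ρ f l ↔ ∀ a : A, ρ (f a) v = (l a : ℂ) • v := by
  simp [esp, Submodule.mem_iInf, Module.End.mem_eigenspace_iff]

theorem conj_lin (l : A →* ℂˣ) (a : A) : conj (l a : ℂ) = ((l a : ℂ))⁻¹ := by
  refine H12.conj_eq_inv_of_pow_eq_one (n := orderOf a) (orderOf_pos a).ne' ?_
  rw [← Units.val_pow_eq_pow_val, ← map_pow, pow_orderOf_eq_one, map_one, Units.val_one]

theorem finrank_esp (ρ : Representation ℂ G V) (f : A →* G) (l : A →* ℂˣ) :
    (finrank ℂ (esp ρ f l) : ℂ) =
      classInner (fun a : A => ρ.character (f a)) (fun a => (l a : ℂ)) := by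
  let σ : Representation ℂ A V :=
    { toFun := fun a => ((l a : ℂ))⁻¹ • ρ (f a)
      map_one' := by simp
      map_mul' := fun a b => by
        simp only [map_mul, Units.val_mul, mul_inv, smul_mul_smul_comm] }
  have he : Representation.invariants σ = esp ρ f l := by
    ext x
    rw [Representation.mem_invariants, mem_esp]
    refine forall_congr' fun a => ?_
    show ((l a : ℂ))⁻¹ • ρ (f a) x = x ↔ _
    rw [inv_smul_eq_iff₀ (l a).ne_zero]
  haveI : Invertible (Nat.card A : ℂ) := invertibleOfNonzero H12.card_ne_zero'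
  have h := Representation.card_inv_mul_sum_char_eq_finrank σ
  rw [he] at h
  rw [← h, H12.classInner_def]
  congr 1
  refine Finset.sum_congr rfl fun a _ => ?_
  show LinearMap.trace ℂ V (((l a : ℂ))⁻¹ • ρ (f a)) = _
  rw [map_smul, smul_eq_mul, conj_lin, mul_comm]
  rfl

theorem mu_eq_finrank (ρ : Representation ℂ G V) (f : A →* G) (l : A →* ℂˣ) :
    mu ρ.character f l = finrank ℂ (esp ρ f l) := by
  rw [mu, ← finrank_esp, Complex.natCast_re, Nat.floor_natCast]

theorem mu_cast {χ : G → ℂ} (hχ : IsCharacter G χ) (f : A →* G) (l : A →* ℂˣ) :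
    (mu χ f l : ℂ) = classInner (fun a : A => χ (f a)) (fun a => (l a : ℂ)) := by
  obtain ⟨n, ρ, rfl⟩ := hχ
  rw [mu_eq_finrank, finrank_esp]

/-- A nonzero vector in a joint eigenspace gives a positive multiplicity. -/
theorem mu_pos (ρ : Representation ℂ G V) (f : A →* G) (l : A →* ℂˣ) {x : V} (hx : x ≠ 0)
    (h : ∀ a : A, ρ (f a) x = (l a : ℂ) • x) : 0 < mu ρ.character f l := by
  rw [mu_eq_finrank]
  have hne : esp ρ f l ≠ ⊥ := fun he => hx ((Submodule.mem_bot ℂ).1 (he ▸ mem_esp.2 h))
  haveI := Submodule.nontrivial_iff_ne_bot.2 hne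
  exact finrank_pos

/-- Multiplicities are additive in the constituents. -/
theorem mu_sum [Finite G] {χ : G → ℂ} (hχ : IsCharacter G χ) {m : IrrCharacter G → ℕ}
    (hm : χ = ∑ ψ, (m ψ : ℂ) • (ψ : G → ℂ)) (f : A →* G) (l : A →* ℂˣ) :
    mu χ f l = ∑ ψ, m ψ * mu (ψ : G → ℂ) f l := by
  classical
  have h : (mu χ f l : ℂ) = ((∑ ψ, m ψ * mu (ψ : G → ℂ) f l : ℕ) : ℂ) := by
    rw [mu_cast hχ]
    push_cast
    simp only [mu_cast (H12.isCharacter_irr _)]
    rw [show (fun a : A => χ (f a)) = ∑ ψ : IrrCharacter G, (m ψ : ℂ) • (fun a : A => (ψ : G → ℂ) (f a))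
      from funext fun a => by rw [hm]; simp, H12.classInner_sum_left]
    simp only [H12.classInner_smul_left]
  exact_mod_cast h

/-- The multiplicities add up to the degree. -/
theorem sum_mu (hcomm : ∀ a b : A, a * b = b * a) [Fintype (A →* ℂˣ)] {χ : G → ℂ}
    (hχ : IsCharacter G χ) (f : A →* G) :
    ∑ l : A →* ℂˣ, mu χ f l = H12.degree χ ∧
      ∀ a : A, χ (f a) = ∑ l : A →* ℂˣ, (mu χ f l : ℂ) * (l a : ℂ) := by
  classical
  have hχf : IsCharacter A (fun a : A => χ (f a)) := H12.IsCharacter.comp hχ f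
  obtain ⟨m, hm⟩ := H12.IsCharacter.exists_mult hχf
  let e : (A →* ℂˣ) ≃ IrrCharacter A := Equiv.ofBijective H12.linIrr
    ⟨H12.linIrr_injective, fun i => by
      obtain ⟨l, hl⟩ := H12.exists_monoidHom_of_apply_one_eq_one (H12.isCharacter_irr i)
        (H12.irr_apply_one_of_comm hcomm i)
      exact ⟨l, Subtype.ext hl⟩⟩
  have hml : ∀ l, (mu χ f l : ℂ) = (m (e l) : ℂ) := fun l => by
    rw [mu_cast hχ, hm]
    exact H12.classInner_sum_smul_irr (fun i => (m i : ℂ)) (e l)
  have hval : ∀ a : A, χ (f a) = ∑ l : A →* ℂˣ, (mu χ f l : ℂ) * (l a : ℂ) := fun a => by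
    rw [show χ (f a) = (fun a : A => χ (f a)) a from rfl, hm, Finset.sum_apply]
    refine (Fintype.sum_equiv e _ _ fun l => ?_).symm
    rw [hml, Pi.smul_apply, smul_eq_mul]
    rfl
  refine ⟨?_, hval⟩
  have h1 := hval 1
  rw [map_one, H12.IsCharacter.apply_one_eq_degree hχ] at h1
  simp only [map_one, Units.val_one, mul_one] at h1
  exact_mod_cast h1.symm

/-- Central images act on an irreducible character through one linear character. -/
theorem exists_mu_central [Finite G] {φ : G → ℂ} (hφ : IsIrrCharacter G φ)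
    (hcomm : ∀ a b : A, a * b = b * a) (f : A →* G)
    (hf : ∀ (a : A) (g : G), g * f a = f a * g) :
    ∃ l : A →* ℂˣ, mu φ f l = H12.degree φ ∧ ∀ a : A, φ (f a) = (l a : ℂ) * φ 1 := by
  classical
  obtain ⟨n, ρ, hρ, rfl⟩ := hφ
  haveI : Finite (A →* ℂˣ) := Finite.of_injective H12.linIrr H12.linIrr_injective
  haveI := Fintype.ofFinite (A →* ℂˣ)
  haveI := hρ
  have hn : 0 < H12.degree ρ.character := by
    rw [H12.degree_character]; exact H12.finrank_pos_of_isIrreducible ρ
  obtain ⟨l, hl⟩ : ∃ l, 0 < mu ρ.character f l := by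
    by_contra! hno
    have h1 := (sum_mu hcomm ⟨n, ρ, rfl⟩ f).1
    rw [Finset.sum_eq_zero fun l _ => Nat.le_zero.1 (hno l)] at h1
    omega
  rw [mu_eq_finrank] at hl
  have hne : esp ρ f l ≠ ⊥ := fun he => by
    rw [he, finrank_bot] at hl; exact absurd hl (lt_irrefl 0)
  have htop : esp ρ f l = ⊤ := by
    refine H13.eq_top_of_irreducible ρ _ (fun g x hx => mem_esp.2 fun a => ?_) hne
    rw [← Module.End.mul_apply, ← map_mul, ← hf a g, map_mul, Module.End.mul_apply,
      mem_esp.1 hx a, map_smul]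
  refine ⟨l, by rw [mu_eq_finrank, htop, finrank_top, H12.degree_character], fun a => ?_⟩
  have h1 : ρ (f a) = (l a : ℂ) • 1 := LinearMap.ext fun x =>
    mem_esp.1 (htop ▸ Submodule.mem_top (x := x)) a
  rw [Representation.char_one]
  show LinearMap.trace ℂ _ (ρ (f a)) = _
  rw [h1, map_smul, LinearMap.trace_one, smul_eq_mul]

end H14.SmallDeg
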