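import Cfsg.Agent.H15.Degree.Main
import Cfsg.Agent.H14.SmallDeg.Spec

/-!
Restriction of a small faithful irreducible character to a Sylow subgroup of prime order.
-/

set_option autoImplicit false
set_option linter.style.haveILetI false
set_option linter.unusedSectionVars false

open Cfsg
open scoped ComplexConjugate

namespace H14.SmallDeg

open H85.D1 H15.HalfDeg H15.Degree

universe u v

/-- Multiplicities of a function which agrees off the identity with a signed orbit sum. -/
theorem mult_orbit {B : Type v} [Group B] [Fintype B] {p : ℕ} [hp : Fact p.Prime]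
    (hB : Nat.card B = p) {T : Subgroup (MulAut B)} [Fintype T] {ψ : B →* ℂˣ} (hψ : ψ ≠ 1)
    (F : B → ℂ) (d : ℕ) (hd : F 1 = d) (ε : ℤ)
    (hcase : (ε = 1 ∧ d = Fintype.card T) ∨ (ε = -1 ∧ d + Fintype.card T = p))
    (hval : ∀ x : B, x ≠ 1 → F x = ε * ∑ α : T, (ψ ((α : MulAut B) x) : ℂ)) (l : B →* ℂˣ) :
    (classInner F (fun x => (l x : ℂ)) = 0 ∨ classInner F (fun x => (l x : ℂ)) = 1) ∧
      (ε = 1 → l = 1 → classInner F (fun x => (l x : ℂ)) = 0) := by
  classical
  have hp0 : (p : ℂ) ≠ 0 := Nat.cast_ne_zero.2 hp.out.ne_zero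
  have hFdec : F = (fun x : B => if x = 1 then (d : ℂ) - ε * (Fintype.card T : ℂ) else 0) +
      (ε : ℂ) • ∑ α : T, (H12.linIrr (twist ψ α) : B → ℂ) := by
    funext x
    simp only [Pi.add_apply, Pi.smul_apply, Finset.sum_apply, smul_eq_mul, H12.linIrr_apply,
      twist_apply]
    by_cases hx : x = 1
    · subst hx
      simp [hd]
    · simp [hx, hval x hx]
  have hI : classInner F (fun x => (l x : ℂ)) = ((d : ℂ) - ε * (Fintype.card T : ℂ)) / (p : ℂ) +
      ε * ((Finset.univ.filter fun α : T => twist ψ α = l).card : ℂ) := by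
    rw [hFdec, H12.classInner_add_left, H12.classInner_smul_left, H12.classInner_sum_left]
    congr 1
    · rw [H12.classInner_def, hB, Finset.sum_eq_single (1 : B) (fun b _ hb => by simp [hb])
        (by simp)]
      simp [div_eq_inv_mul]
    · rw [show (fun x => (l x : ℂ)) = (H12.linIrr l : B → ℂ) from rfl]
      simp only [H12.classInner_irr, H12.linIrr_injective.eq_iff, Finset.sum_boole]
  have hle : (Finset.univ.filter fun α : T => twist ψ α = l).card ≤ 1 :=
    Finset.card_le_one.2 fun a ha b hb => twist_injective hB hψ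
      ((Finset.mem_filter.1 ha).2.trans (Finset.mem_filter.1 hb).2.symm)
  rcases hcase with ⟨rfl, hdf⟩ | ⟨rfl, hdf⟩
  · rw [hdf, Int.cast_one, one_mul, sub_self, zero_div, zero_add, one_mul] at hI
    refine ⟨?_, fun _ hl => ?_⟩
    · rcases (show _ = 0 ∨ _ = 1 by omega : (Finset.univ.filter fun α : T => twist ψ α = l).card = 0 ∨
          (Finset.univ.filter fun α : T => twist ψ α = l).card = 1) with h | h
      · exact Or.inl (by rw [hI, h, Nat.cast_zero])
      · exact Or.inr (by rw [hI, h, Nat.cast_one])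
    · rw [hI, Finset.filter_eq_empty_iff.2 fun α _ he => hψ ?_]
      · simp
      · refine MonoidHom.ext fun x => ?_
        have h := DFunLike.congr_fun (hl ▸ he) (((α : MulAut B)).symm x)
        simpa [twist_apply] using h
  · have hdp : (d : ℂ) - ((-1 : ℤ) : ℂ) * (Fintype.card T : ℂ) = (p : ℂ) := by
      rw [Int.cast_neg, Int.cast_one, neg_one_mul, sub_neg_eq_add]
      exact_mod_cast hdf
    rw [hdp, div_self hp0] at hI
    refine ⟨?_, fun h => absurd h (by decide)⟩
    rcases (show _ = 0 ∨ _ = 1 by omega : (Finset.univ.filter fun α : T => twist ψ α = l).card = 0 ∨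
        (Finset.univ.filter fun α : T => twist ψ α = l).card = 1) with h | h
    · exact Or.inr (by rw [hI, h]; simp)
    · exact Or.inl (by rw [hI, h]; simp)

variable {A : Type u} [Group A] [Finite A] {p : ℕ} [hp : Fact p.Prime]

/-- On a Sylow subgroup of order `p` a small faithful irreducible character is multiplicity free,
without fixed vectors in half degree, and the subgroup lies in the derived group. -/
theorem prime_order (P : Sylow p A) [Fintype (P : Subgroup A)] (hP : Nat.card P = p)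
    (hnn : ¬ (P : Subgroup A).Normal) (ζ : A → ℂ) (hζ : IsIrrCharacter A ζ)
    (hfaith : ∀ g : A, ζ g = ζ 1 → g = 1) (hdeg : H12.degree ζ + 2 ≤ p) :
    (∀ l : (P : Subgroup A) →* ℂˣ, mu ζ (P : Subgroup A).subtype l ≤ 1) ∧
      (2 * H12.degree ζ + 1 = p → mu ζ (P : Subgroup A).subtype 1 = 0) ∧
      (P : Subgroup A) ≤ commutator A := by
  classical
  letI : Fintype A := Fintype.ofFinite A
  have hp' : p.Prime := hp.out
  obtain ⟨M, hM⟩ := H22.exists_isPModular p hp'
  haveI : M.IsPrime := hM.2.1.isPrime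
  obtain ⟨u, a, H, D⟩ := exists_setting hP
  haveI : Fintype H := Fintype.ofFinite _
  haveI : Fintype (D.aut (H12.oneIrr H)) := Fintype.ofFinite _
  set χA : IrrCharacter A := ⟨ζ, hζ⟩ with hχA
  obtain ⟨hfA2, hfA, hfAd, θA, hθA, hSA⟩ := exists_colY D hM hnn χA hdeg hfaith
  set fA := Nat.card (D.aut (H12.oneIrr H)) with hfAdef
  have hcls := card_classes D
  rw [← hfAdef] at hcls
  -- the subgroup generated by the elements of order `p`
  set L := Subgroup.closure {g : A | g ^ p = 1} with hL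
  haveI hLn : L.Normal := by
    refine Subgroup.normalizer_eq_top_iff.1 (top_le_iff.1 fun g _ => ?_)
    rw [Subgroup.mem_normalizer_iff_map_conj_eq, hL, MonoidHom.map_closure]
    congr 1
    ext y
    constructor
    · rintro ⟨z, hz, rfl⟩
      show (MulAut.conj g z) ^ p = 1
      rw [← map_pow, show z ^ p = 1 from hz, map_one]
    · intro hy
      refine ⟨g⁻¹ * y * g, ?_, by simp [mul_assoc]⟩
      show (g⁻¹ * y * g) ^ p = 1
      rw [show g⁻¹ * y * g = g⁻¹ * y * (g⁻¹)⁻¹ by rw [inv_inv], conj_pow,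
        show y ^ p = 1 from hy, mul_one, mul_inv_cancel]
  have hmemL : ∀ g : A, g ^ p = 1 → g ∈ L := fun g hg => Subgroup.subset_closure hg
  have hpowP : ∀ x ∈ (P : Subgroup A), x ^ p = 1 := fun x hx => H15.PSubTwo.pow_p_eq_one D hx
  have hPL : (P : Subgroup A) ≤ L := fun x hx => hmemL x (hpowP x hx)
  haveI : Fintype L := Fintype.ofFinite _
  set P' := P.subtype hPL with hP'
  have hP'c : Nat.card P' = p := by
    exact (Nat.card_congr (Subgroup.subgroupOfEquivOfLe hPL).toEquiv).trans hP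
  obtain ⟨u', a', H', D'⟩ := exists_setting hP'c
  haveI : Fintype H' := Fintype.ofFinite _
  haveI : Fintype (P' : Subgroup L) := Fintype.ofFinite _
  haveI : Fintype (D'.aut (H12.oneIrr H')) := Fintype.ofFinite _
  have hgen : Subgroup.closure {g : L | g ^ p = 1} = ⊤ := by
    refine Eq.trans (congrArg _ ?_) (Subgroup.closure_closure_coe_preimage (k := {g : A | g ^ p = 1}))
    ext g
    simp only [Set.mem_setOf_eq, Set.mem_preimage, ← SubmonoidClass.coe_pow]
    exact ⟨fun h => by rw [h]; rfl, fun h => Subtype.ext h⟩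
  have hP'n : ¬ (P' : Subgroup L).Normal := by
    intro hN
    refine hnn ⟨fun x hx g => ?_⟩
    set y := g * x * g⁻¹ with hy
    have hyp : y ^ p = 1 := by rw [hy, conj_pow, hpowP x hx, mul_one, mul_inv_cancel]
    obtain ⟨k, -, hk⟩ := (Nat.dvd_prime_pow hp').1
      ((pow_one p).symm ▸ orderOf_dvd_of_pow_eq_one hyp : orderOf y ∣ p ^ 1)
    obtain ⟨z, hz, hconj⟩ := H20.FreeSylow.exists_isConj_mem (P := P')
      (y := (⟨y, hmemL y hyp⟩ : L)) ⟨k, by rw [Subgroup.orderOf_mk, hk]⟩
    obtain ⟨t, ht⟩ := isConj_iff.1 hconj.symm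
    have h1 := hN.conj_mem z hz t
    rw [ht] at h1
    exact h1
  set u₁ : ↥(P' : Subgroup L) := ⟨⟨u, hPL D.u_mem⟩, D.u_mem⟩ with hu₁
  have hu₁1 : u₁ ≠ 1 := fun h' => D.u_ne_one
    (congrArg (fun w : ↥(P' : Subgroup L) => ((w : L) : A)) h')
  -- the inertial group of `L` embeds
  choose tt htt0 htt using fun α : D'.aut (H12.oneIrr H') => D'.mem_aut_iff.1 α.2
  have httN : ∀ α, ((tt α : L) : A) ∈ Subgroup.normalizer ((P : Subgroup A) : Set A) := fun α => by
    have hmem : ((tt α : L) : A) * u * ((tt α : L) : A)⁻¹ ∈ (P : Subgroup A) := by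
      have h1 := ((α : MulAut (P' : Subgroup L)) u₁).2
      rw [htt α u₁] at h1
      exact h1
    exact D.mem_normalizer D.u_mem D.u_ne_one hmem rfl
  let emb : D'.aut (H12.oneIrr H') → D.aut (H12.oneIrr H) := fun α =>
    ⟨(P : Subgroup A).normalizerMonoidHom ⟨_, httN α⟩,
      D.mem_aut_iff.2 ⟨_, by rw [D.stab_one]; exact httN α, fun x => rfl⟩⟩
  have hemb : Function.Injective emb := by
    intro α β he
    have h1 : ((tt α : L) : A) * u * ((tt α : L) : A)⁻¹ =
        ((tt β : L) : A) * u * ((tt β : L) : A)⁻¹ :=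
      congrArg (fun γ : D.aut (H12.oneIrr H) =>
        (((γ : MulAut (P : Subgroup A)) ⟨u, D.u_mem⟩ : (P : Subgroup A)) : A)) he
    refine Subtype.ext (MulEquiv.ext fun x => ?_)
    obtain ⟨i, rfl⟩ := zpowers_top hP'c hu₁1 x
    rw [map_zpow, map_zpow]
    congr 1
    refine Subtype.ext (Subtype.ext ?_)
    rw [htt α u₁, htt β u₁]
    exact h1
  set fL := Nat.card (D'.aut (H12.oneIrr H')) with hfLdef
  have hfle : fL ≤ fA := Nat.card_le_card_of_injective emb hemb
  -- the constituent of the restriction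
  obtain ⟨mw, hmu⟩ := H12.IsCharacter.exists_mult
    (H12.IsCharacter.res (H12.isCharacter_irr χA) L)
  have hmy : ∀ y : L, ζ y = ∑ i : IrrCharacter L, (mw i : ℂ) * (i : L → ℂ) y := fun y => by
    have := congrFun hmu y
    simpa using this
  have hdegL : H12.degree ζ = ∑ i : IrrCharacter L, mw i * H12.degree (i : L → ℂ) := by
    have h := hmy 1
    rw [OneMemClass.coe_one, H12.IsCharacter.apply_one_eq_degree
      (H12.isCharacter_of_isIrrCharacter hζ)] at h
    simp only [H12.irr_apply_one] at h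
    exact_mod_cast h
  have hterm : ∀ i, mw i * H12.degree (i : L → ℂ) ≤ H12.degree ζ := fun i => by
    rw [hdegL]
    exact Finset.single_le_sum (f := fun i : IrrCharacter L => mw i * H12.degree (i : L → ℂ))
      (fun i _ => Nat.zero_le _) (Finset.mem_univ i)
  have hscalar : ∀ i : IrrCharacter L, 2 * H12.degree (i : L → ℂ) + 1 < p → ∀ x : L,
      x ∈ (P' : Subgroup L) → ∀ g : L, (i : L → ℂ) (x * g * (g * x)⁻¹) = (i : L → ℂ) 1 := by
    intro i hi x hx g
    have hnorm := D'.norm_eq_of_small hM hgen i (by omega) (x := x) hx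
    obtain ⟨k, σ, hσ, he'⟩ := i.2
    rw [← he'] at hnorm ⊢
    rw [H12.degree_character] at hnorm
    obtain ⟨ω, hω⟩ := H12.exists_scalar_of_norm_eq σ x hnorm
    have h1 : σ (x * g) = σ (g * x) := by
      rw [map_mul, map_mul, hω]
      ext v
      simp
    show LinearMap.trace ℂ _ (σ (x * g * (g * x)⁻¹)) = LinearMap.trace ℂ _ (σ 1)
    rw [map_mul, h1, ← map_mul, mul_inv_cancel]
  obtain ⟨ψ₀, hψ₀, hbig⟩ : ∃ i : IrrCharacter L, mw i ≠ 0 ∧ p ≤ 2 * H12.degree (i : L → ℂ) + 1 := by
    by_contra! hall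
    refine hP'n ⟨fun x hx g => ?_⟩
    have h1 : ζ ((x * g * (g * x)⁻¹ : L) : A) = ζ 1 := by
      rw [show ζ 1 = ζ ((1 : L) : A) from rfl, hmy, hmy]
      refine Finset.sum_congr rfl fun i _ => ?_
      rcases Nat.eq_zero_or_pos (mw i) with h | h
      · rw [h]; simp
      · rw [hscalar i (hall i h.ne') x hx g]
    have h2 : x * g = g * x := mul_inv_eq_one.1 (Subtype.ext (hfaith _ h1))
    rw [← h2, mul_inv_cancel_right]
    exact hx
  have hfL2 : 2 ≤ fL := by
    by_contra hlt
    have hfL1 : Nat.card (D'.aut (H12.oneIrr H')) = 1 := by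
      have : 0 < fL := hfLdef ▸ Nat.card_pos
      omega
    refine hP'n ⟨fun x hx g => ?_⟩
    have h1 : ζ ((x * g * (g * x)⁻¹ : L) : A) = ζ 1 := by
      rw [show ζ 1 = ζ ((1 : L) : A) from rfl, hmy, hmy]
      refine Finset.sum_congr rfl fun i _ => ?_
      rcases Nat.eq_zero_or_pos (mw i) with h | h
      · rw [h]; simp
      have hle : H12.degree (i : L → ℂ) ≤ H12.degree ζ :=
        (Nat.le_mul_of_pos_left _ h).trans (hterm i)
      have hnorm := H15.PSubTwo.norm_eq_of_trivial_aut D' hM hfL1 i (by omega) hx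
      obtain ⟨k, σ, hσ, he'⟩ := i.2
      rw [← he'] at hnorm ⊢
      rw [H12.degree_character] at hnorm
      obtain ⟨ω, hω⟩ := H12.exists_scalar_of_norm_eq σ x hnorm
      have h3 : σ (x * g) = σ (g * x) := by
        rw [map_mul, map_mul, hω]
        ext v
        simp
      congr 1
      show LinearMap.trace ℂ _ (σ (x * g * (g * x)⁻¹)) = LinearMap.trace ℂ _ (σ 1)
      rw [map_mul, h3, ← map_mul, mul_inv_cancel]
    have h2 : x * g = g * x := mul_inv_eq_one.1 (Subtype.ext (hfaith _ h1))
    rw [← h2, mul_inv_cancel_right]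
    exact hx
  have hperf : ∀ l : L →* ℂˣ, l = 1 := lin_trivial D' hgen hfL2
  have hLne : L ≠ ⊥ := fun he => D.u_ne_one (by
    have := hPL D.u_mem
    rwa [he, Subgroup.mem_bot] at this)
  have hrest : ∀ i : IrrCharacter L, i ≠ ψ₀ → mw i = 0 := by
    intro i hi
    by_contra h0
    have hpair : mw ψ₀ * H12.degree (ψ₀ : L → ℂ) + mw i * H12.degree (i : L → ℂ) ≤ H12.degree ζ := by
      rw [hdegL, ← Finset.add_sum_erase _ _ (Finset.mem_univ ψ₀)]
      exact Nat.add_le_add_left (Finset.single_le_sum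
        (f := fun i : IrrCharacter L => mw i * H12.degree (i : L → ℂ)) (fun i _ => Nat.zero_le _)
        (Finset.mem_erase.2 ⟨hi, Finset.mem_univ i⟩)) _
    have h1 := Nat.le_mul_of_pos_left (H12.degree (ψ₀ : L → ℂ)) (Nat.pos_of_ne_zero hψ₀)
    have h2 := Nat.le_mul_of_pos_left (H12.degree (i : L → ℂ)) (Nat.pos_of_ne_zero h0)
    have hsmall : 2 * H12.degree (i : L → ℂ) + 1 < p := by omega
    -- `i` is linear, so trivial
    obtain ⟨k, σ, hσ, he'⟩ := i.2
    haveI := hσ
    have hcomm : ∀ x y : L, σ x * σ y = σ y * σ x := by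
      intro x y
      have hx : x ∈ Subgroup.closure {g : L | g ^ p = 1} := hgen ▸ Subgroup.mem_top x
      induction hx using Subgroup.closure_induction with
      | mem z hz =>
        obtain ⟨c, -, hc⟩ := (Nat.dvd_prime_pow hp').1
          ((pow_one p).symm ▸ orderOf_dvd_of_pow_eq_one hz : orderOf z ∣ p ^ 1)
        obtain ⟨w, hw, hconj⟩ := H20.FreeSylow.exists_isConj_mem (P := P') (y := z) ⟨c, hc⟩
        obtain ⟨s, hs⟩ := isConj_iff.1 hconj.symm
        have hnorm := D'.norm_eq_of_small hM hgen i (by omega) (x := w) hw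
        rw [← he', H12.degree_character] at hnorm
        obtain ⟨ω, hω⟩ := H12.exists_scalar_of_norm_eq σ w hnorm
        have hz' : σ z = ω • LinearMap.id := by
          rw [← hs, map_mul, map_mul, hω]
          rw [← Module.End.one_eq_id, mul_smul_comm, mul_one, smul_mul_assoc, ← map_mul,
            mul_inv_cancel, map_one]
        rw [hz']
        ext v
        simp
      | one => rw [map_one, one_mul, mul_one]
      | mul x z _ _ hx hz => rw [map_mul, mul_assoc, hz, ← mul_assoc, hx, mul_assoc]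
      | inv x _ hx =>
        have e1 : σ x⁻¹ * σ x = 1 := by rw [← map_mul, inv_mul_cancel, map_one]
        have e2 : σ x * σ x⁻¹ = 1 := by rw [← map_mul, mul_inv_cancel, map_one]
        calc σ x⁻¹ * σ y = σ x⁻¹ * (σ y * σ x) * σ x⁻¹ := by
              rw [mul_assoc (σ x⁻¹), mul_assoc (σ y), e2, mul_one]
          _ = σ x⁻¹ * (σ x * σ y) * σ x⁻¹ := by rw [hx]
          _ = σ y * σ x⁻¹ := by rw [← mul_assoc (σ x⁻¹), e1, one_mul]
    have hd1 : H12.degree (i : L → ℂ) = 1 := by
      refine Nat.dvd_one.1 ?_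
      rw [← Subgroup.index_top (G := L)]
      refine H15.degree_dvd_index_of_scalar i.2 ⊤ (fun z _ => ?_) (H12.irr_apply_one i)
      obtain ⟨c, hc⟩ := H12.exists_scalar_of_commute σ (σ z) fun y => hcomm z y
      have hk0 : (k : ℂ) ≠ 0 := by
        have hpos := H12.irr_degree_pos i
        rw [← he', H12.degree_character, Module.finrank_fintype_fun_eq_card, Fintype.card_fin] at hpos
        exact Nat.cast_ne_zero.2 hpos.ne'
      have hcn : ‖c‖ = 1 := by
        refine Complex.norm_eq_one_of_pow_eq_one (n := orderOf z) ?_ (orderOf_pos z).ne'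
        have h3 : σ (z ^ orderOf z) = (c ^ orderOf z) • (1 : Module.End ℂ (Fin k → ℂ)) := by
          rw [map_pow, hc, smul_pow, one_pow]
        rw [pow_orderOf_eq_one, map_one] at h3
        have h4 := congrArg (LinearMap.trace ℂ (Fin k → ℂ)) h3
        rw [map_smul, LinearMap.trace_one, smul_eq_mul, Module.finrank_fintype_fun_eq_card,
          Fintype.card_fin] at h4
        exact mul_right_cancel₀ hk0 (h4.symm.trans (one_mul _).symm)
      rw [← he', σ.char_one, show σ.character z = LinearMap.trace ℂ _ (σ z) from rfl, hc,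
        map_smul, LinearMap.trace_one, smul_eq_mul, Module.finrank_fintype_fun_eq_card,
        Fintype.card_fin, norm_mul, hcn, one_mul]
    obtain ⟨l, hl⟩ := H12.exists_monoidHom_of_apply_one_eq_one (H12.isCharacter_irr i)
      (by rw [H12.irr_apply_one, hd1, Nat.cast_one])
    have hione : i = H12.oneIrr L := Subtype.ext (funext fun y => by
      rw [H12.oneIrr_apply, ← congrFun hl y, hperf l]; simp)
    refine hLne (eq_bot_of_trivial_constituent L χA hfaith ?_)
    rw [hmu, H12.classInner_sum_smul_irr, ← hione]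
    exact Nat.cast_ne_zero.2 h0
  have hm1 : mw ψ₀ = 1 := by
    have h1 := hterm ψ₀
    by_contra hne
    have h2 := Nat.mul_le_mul_right (H12.degree (ψ₀ : L → ℂ)) (show 2 ≤ mw ψ₀ by omega)
    omega
  have hres : ∀ y : L, ζ y = (ψ₀ : L → ℂ) y := fun y => by
    rw [hmy, Finset.sum_eq_single ψ₀ (fun i _ hi => by rw [hrest i hi]; simp) (by simp), hm1,
      Nat.cast_one, one_mul]
  have hdψ : H12.degree (ψ₀ : L → ℂ) = H12.degree ζ := by
    have h := hres 1
    rw [OneMemClass.coe_one, H12.IsCharacter.apply_one_eq_degree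
      (H12.isCharacter_of_isIrrCharacter hζ), H12.irr_apply_one] at h
    exact_mod_cast h.symm
  have hfψ : ∀ l : L, (ψ₀ : L → ℂ) l = (ψ₀ : L → ℂ) 1 → l = 1 := fun l hl => by
    rw [← hres, ← hres, OneMemClass.coe_one] at hl
    exact Subtype.ext (hfaith _ hl)
  have hcomm : commutator L = ⊤ := by
    have h1 := H12.card_monoidHom_units (G := L)
    haveI : Subsingleton (L →* ℂˣ) := ⟨fun a b => (hperf a).trans (hperf b).symm⟩
    rw [Nat.card_unique] at h1
    exact Subgroup.index_eq_one.1 h1.symm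
  have hPD : (P : Subgroup A) ≤ commutator A := fun x hx => by
    have h1 : (⟨x, hPL hx⟩ : L) ∈ commutator L := hcomm ▸ Subgroup.mem_top _
    have h2 := Subgroup.map_mono (f := L.subtype) le_rfl ⟨_, h1, rfl⟩
    rw [commutator_def, Subgroup.map_commutator] at h2
    exact Subgroup.commutator_mono le_top le_top h2
  have hd2 : 2 ≤ H12.degree ζ := by
    by_contra hlt
    have h1 : H12.degree ζ = 1 := by
      have := H12.irr_degree_pos (⟨ζ, hζ⟩ : IrrCharacter A)
      simp only at this
      omega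
    obtain ⟨l, hl⟩ := H12.exists_monoidHom_of_apply_one_eq_one (H12.isCharacter_of_isIrrCharacter hζ)
      (by rw [H12.IsCharacter.apply_one_eq_degree (H12.isCharacter_of_isIrrCharacter hζ), h1,
        Nat.cast_one])
    refine hnn ⟨fun x hx g => ?_⟩
    have h2 : g * x * g⁻¹ * x⁻¹ = 1 := hfaith _ (by
      rw [← hl]; simp [mul_comm (l g) (l x)])
    rw [mul_inv_eq_one.1 h2]
    exact hx
  set e : ↥(P' : Subgroup L) ≃* ↥(P : Subgroup A) := Subgroup.subgroupOfEquivOfLe hPL
  suffices hmain : ∀ l : (P' : Subgroup L) →* ℂˣ,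
      (classInner (fun x : (P' : Subgroup L) => (ψ₀ : L → ℂ) x) (fun x => (l x : ℂ)) = 0 ∨
        classInner (fun x : (P' : Subgroup L) => (ψ₀ : L → ℂ) x) (fun x => (l x : ℂ)) = 1) ∧
      (2 * H12.degree ζ + 1 = p → l = 1 →
        classInner (fun x : (P' : Subgroup L) => (ψ₀ : L → ℂ) x) (fun x => (l x : ℂ)) = 0) by
    have key : ∀ l : (P : Subgroup A) →* ℂˣ, (mu ζ (P : Subgroup A).subtype l : ℂ) =
        classInner (fun x : (P' : Subgroup L) => (ψ₀ : L → ℂ) x)
          (fun x => ((l.comp e.toMonoidHom) x : ℂ)) := fun l => by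
      rw [mu_cast (H12.isCharacter_of_isIrrCharacter hζ), H12.classInner_def, H12.classInner_def,
        Nat.card_congr e.toEquiv]
      congr 1
      refine (Fintype.sum_equiv e.toEquiv _ _ fun x => ?_).symm
      rw [← hres]
      rfl
    refine ⟨fun l => ?_, fun h => ?_, hPD⟩
    · rcases (hmain (l.comp e.toMonoidHom)).1 with h | h
      · rw [← key] at h
        rw [Nat.cast_eq_zero.1 h]; exact Nat.zero_le _
      · rw [← key] at h
        rw [Nat.cast_eq_one.1 h]
    · have h1 := (hmain 1).2 h rfl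
      have h2 := key 1
      rw [MonoidHom.one_comp] at h2
      rw [← h2] at h1
      exact Nat.cast_eq_zero.1 h1
  intro l
  have h1ψ : (fun x : (P' : Subgroup L) => (ψ₀ : L → ℂ) x) 1 = (H12.degree ζ : ℂ) := by
    simp only [OneMemClass.coe_one]
    rw [H12.irr_apply_one, hdψ]
  rcases reduce D' hM hgen hP'n ψ₀ (by omega) hfψ with hhalf | ⟨θ, ψ, h⟩
  · obtain ⟨θ, ψ, h⟩ := exists_half D' hM hgen hP'n (e := H12.degree (ψ₀ : L → ℂ)) (by omega) hhalf
      ψ₀ rfl hfψ
    obtain ⟨h01, h0⟩ := mult_orbit hP'c (T := D'.aut (H12.oneIrr H')) h.psi_ne (fun x : (P' : Subgroup L) => (ψ₀ : L → ℂ) x)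
      (H12.degree ζ) h1ψ 1
      (Or.inl ⟨rfl, by rw [← Nat.card_eq_fintype_card, h.card_aut, hdψ]⟩)
      (fun x hx => by simpa using h.val x hx) l
    exact ⟨h01, fun _ => h0 rfl⟩
  · have hadd := h.add_eq
    rw [hdψ] at hadd
    obtain ⟨h01, -⟩ := mult_orbit hP'c (T := D'.aut (H12.oneIrr H')) h.psi_ne (fun x : (P' : Subgroup L) => (ψ₀ : L → ℂ) x)
      (H12.degree ζ) h1ψ (-1)
      (Or.inr ⟨rfl, by rw [← Nat.card_eq_fintype_card]; exact hadd⟩)
      (fun x hx => by simpa using h.val x hx) l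
    exact ⟨h01, fun hh => absurd hh (by have := h.le_half; omega)⟩

end H14.SmallDeg
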