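import Cfsg.Agent.H14.SmallDeg.Sep
import Cfsg.Agent.H18.FixedExtension

/-!
The reduction to a Sylow subgroup of prime order for faithful irreducible characters of degree at
most `p - 2`.
-/

set_option autoImplicit false
set_option linter.style.haveILetI false
set_option linter.unusedSectionVars false

open Cfsg Module
open scoped ComplexConjugate

namespace H14.SmallDeg

universe u

/-- An irreducible character stays irreducible on a normal subgroup with non-normal Sylow subgroup. -/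
theorem res_irreducible {G : Type u} [Group G] [Finite G] {p : ℕ} [Fact p.Prime] {χ : G → ℂ}
    (hχ : IsIrrCharacter G χ) (hfaith : ∀ g : G, χ g = χ 1 → g = 1)
    (hd : H12.degree χ + 2 ≤ p) (M : Subgroup G) [M.Normal] (R : Sylow p M)
    (hR : ¬ (R : Subgroup M).Normal) : IsIrrCharacter M (fun x : M => χ x) := by
  classical
  haveI := Fintype.ofFinite G
  haveI := Fintype.ofFinite M
  have hch := H12.isCharacter_of_isIrrCharacter hχ
  have hres : IsCharacter M (fun x : M => χ x) := H12.IsCharacter.res hch M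
  have hdeg : H12.degree (fun x : M => χ x) = H12.degree χ := rfl
  obtain ⟨m, hm⟩ := H12.IsCharacter.exists_mult hres
  obtain ⟨φ, hφ, hbig⟩ : ∃ φ : IrrCharacter M, m φ ≠ 0 ∧
      p ≤ 2 * H12.degree (φ : M → ℂ) + 1 := by
    by_contra! hall
    exact hR (normal_of_constituents R (fun g hg => Subtype.ext (hfaith g (by simpa using hg))) hm
      fun φ hφ => hall φ hφ)
  obtain ⟨hm1, hrest⟩ := small_of_ne hres hm (by rw [hdeg]; exact hd) hφ hbig
  have hne : classInner (fun x : M => χ x) (φ : M → ℂ) = 1 := by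
    rw [hm, H12.classInner_sum_smul_irr, hm1, Nat.cast_one]
  set s : Finset (IrrCharacter M) := Finset.univ.filter fun ψ => ∃ x, H13.twist M x (φ : M → ℂ) = ψ
  have hs : ∀ ψ : IrrCharacter M, ψ ∈ s ↔ ∃ x, H13.twist M x (φ : M → ℂ) = ψ := fun ψ => by
    simp [s]
  have hcl := H13.clifford_res M hχ φ.2 (by rw [hne]; exact one_ne_zero) s hs
  rw [hne, one_smul] at hcl
  have hφs : φ ∈ s := (hs φ).2 ⟨1, H13.twist_one M _⟩
  have hsφ : s = {φ} := by
    refine Finset.eq_singleton_iff_unique_mem.2 ⟨hφs, fun ψ hψ => ?_⟩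
    by_contra hψφ
    obtain ⟨x, hx⟩ := (hs ψ).1 hψ
    have hψd : H12.degree (ψ : M → ℂ) = H12.degree (φ : M → ℂ) := by
      rw [← hx, H12.degree, H12.degree, H13.twist_apply]
      have h1 : (⟨x * (1 : M) * x⁻¹, (inferInstance : M.Normal).conj_mem _ (1 : M).2 x⟩ : M) = 1 :=
        Subtype.ext (by simp)
      rw [h1]
    have hm2 : m ψ ≠ 0 := fun h0 => by
      have h1 : classInner (fun y : M => χ y) (ψ : M → ℂ) = 0 := by
        rw [hm, H12.classInner_sum_smul_irr, h0, Nat.cast_zero]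
      rw [hcl, H12.classInner_sum_left] at h1
      simp only [H12.classInner_irr] at h1
      simp [hψ] at h1
    have h2 := (hrest ψ hψφ hm2).1
    omega
  rw [hcl, hsφ, Finset.sum_singleton]
  exact φ.2

/-- The reduction, for every degree at most `p - 2`. -/
theorem red_all (p : ℕ) [hp : Fact p.Prime] (n : ℕ) (hp7 : 7 ≤ p ∨ (5 ≤ p ∧ n ≤ 2))
    (hn : n + 2 ≤ p) : Red.{u} p n := by
  induction n using Nat.strong_induction_on with
  | _ n ihn =>
  suffices hN : ∀ (N : ℕ) (G : Type u) [Group G] [Finite G], Nat.card G = N → ∀ P : Sylow p G,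
      ¬ (P : Subgroup G).Normal → ∀ χ : G → ℂ, IsIrrCharacter G χ →
      (∀ g : G, χ g = χ 1 → g = 1) → H12.degree χ = n →
      (P : Subgroup G) ⊓ Subgroup.center G = ⊥ → Nat.card P = p from
    fun G _ _ P hnn χ hχ hf hd hZ => hN _ G rfl P hnn χ hχ hf hd hZ
  intro N
  induction N using Nat.strong_induction_on with
  | _ N ih =>
  intro G _ _ hN P hnn χ hχ hfaith hdeg hZ
  classical
  haveI := Fintype.ofFinite G
  have hctx : Ctx p χ n := by
    refine ⟨hχ, hfaith, hdeg, hn, hp7, fun Q hQ => hnn ?_, fun x hx hxZ => ?_,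
      fun k hk => ihn k hk (by omega) (by omega)⟩
    · obtain ⟨g, hg⟩ := MulAction.exists_smul_eq G Q P
      haveI := Sylow.unique_of_normal Q hQ
      rw [show P = Q from Subsingleton.elim _ _]
      exact hQ
    · obtain ⟨R, hR⟩ := exists_sylow_of_pelt hx
      obtain ⟨g, rfl⟩ := MulAction.exists_smul_eq G P R
      rw [Sylow.coe_subgroup_smul] at hR
      have h1 := SmallDegree.conj_inv_mem_of hR
      rw [mul_assoc, ← Subgroup.mem_center_iff.1 hxZ g, inv_mul_cancel_left] at h1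
      exact Subgroup.mem_bot.1 (hZ ▸ Subgroup.mem_inf.2 ⟨h1, hxZ⟩)
  by_cases hmax : ∀ M : Subgroup G, M.Normal → (P : Subgroup G) ≤ M → M = ⊤
  · by_contra hcard
    obtain ⟨e, he⟩ := IsPGroup.iff_card.1 P.isPGroup'
    have he0 : e ≠ 0 := fun h0 => hnn (by
      have h1 : (P : Subgroup G) = ⊥ := Subgroup.card_eq_one.1 (by rw [he, h0, pow_zero])
      rw [h1]; infer_instance)
    have he2 : 2 ≤ e := by
      by_contra hlt
      exact hcard (by rw [he, show e = 1 by omega, pow_one])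
    have hp2 : p ^ 2 ≤ Nat.card P := he ▸ Nat.pow_le_pow_right hp.out.pos he2
    have hsq : p < p ^ 2 := by
      rw [pow_two]
      exact lt_mul_of_one_lt_left hp.out.pos hp.out.one_lt
    have hsep : FTBound.Sep (P : Subgroup G) := by
      intro g hg a b ha hb
      obtain ⟨⟨x, hx⟩, hx1'⟩ := Subgroup.ne_bot_iff_exists_ne_one.1 ha
      obtain ⟨⟨y, hy⟩, hy1'⟩ := Subgroup.ne_bot_iff_exists_ne_one.1 hb
      rw [Subgroup.mem_inf] at hx hy
      have hAc : ((a • P : Sylow p G) : Subgroup G) =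
          (P : Subgroup G).map (MulAut.conj a).toMonoidHom := rfl
      have hBc : ((b • P : Sylow p G) : Subgroup G) =
          (P : Subgroup G).map (MulAut.conj b).toMonoidHom := rfl
      rw [← hAc] at hx ⊢
      rw [← hBc] at hy ⊢
      rcases hctx.sep hg (a • P) (b • P) hx.2 (fun h => hx1' (Subtype.ext h))
          (Subgroup.mem_centralizer_singleton_iff.1 hx.1).symm hy.2
          (fun h => hy1' (Subtype.ext h))
          (Subgroup.mem_centralizer_singleton_iff.1 hy.1).symm with h | h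
      · rw [h]
      · have h1 : Nat.card (a • P : Sylow p G) = Nat.card P := by
          rw [Sylow.card_eq_multiplicity, Sylow.card_eq_multiplicity]
        omega
    haveI := Fintype.ofFinite (P : Subgroup G)
    have h1 : χ 1 = (n : ℂ) := by
      rw [H12.IsCharacter.apply_one_eq_degree (H12.isCharacter_of_isIrrCharacter hχ), hdeg]
    have hne : χ 1 ≠ 1 := by
      rw [h1, Nat.cast_ne_one]
      have := hctx.one_lt
      omega
    have h2 := FTBound.card_lt_sq (P : Subgroup G) (hctx.comm P) hZ hsep hχ hne hmax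
    rw [h1, Complex.natCast_re] at h2
    have h3 : Nat.card P < (1 + n) ^ 2 := by exact_mod_cast h2
    have h4 : (1 + n) ^ 2 ≤ p ^ 2 := Nat.pow_le_pow_left (by omega) 2
    omega
  · push Not at hmax
    obtain ⟨M, hMn, hPM, hMne⟩ := hmax
    haveI := hMn
    haveI := Fintype.ofFinite M
    set P' := P.subtype hPM with hP'
    have hP'n : ¬ (P' : Subgroup M).Normal := by
      intro hn'
      refine hnn ⟨fun x hx g => ?_⟩
      have h1 : (⟨g * x * g⁻¹, hMn.conj_mem x (hPM hx) g⟩ : M) ∈ (P' : Subgroup M) :=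
        mem_sylow_of_normal P' hn'
          ((IsPElt.conj (exists_pow_of_mem_sylow P hx) g).of_map M.subtype M.subtype_injective)
      rw [hP', Sylow.coe_subtype, Subgroup.mem_subgroupOf] at h1
      exact h1
    have hM := res_irreducible hχ hfaith (by rw [hdeg]; exact hn) M P' hP'n
    have hlt : Nat.card M < N := by
      rw [← hN]
      exact lt_of_le_of_ne (Subgroup.card_le_card_group M)
        fun he => hMne (Subgroup.eq_top_of_card_eq _ he)
    have hZ' : (P' : Subgroup M) ⊓ Subgroup.center M = ⊥ := by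
      refine (Subgroup.eq_bot_iff_forall _).2 fun z hz => Subtype.ext ?_
      obtain ⟨k, ρ, hρ, hρχ⟩ := id hχ
      obtain ⟨k', σ, hσ, hσχ⟩ := id hM
      let τ : Representation ℂ M (Fin k → ℂ) := ρ.comp M.subtype
      haveI := H15.HalfDeg.isIrreducible_of_irr τ ⟨fun x : M => χ x, hM⟩
        (funext fun y => congrFun hρχ (y : G))
      obtain ⟨c, hc⟩ := H12.exists_scalar_of_commute τ (ρ (z : G)) fun y => by
        show ρ (z : G) * ρ (y : G) = ρ (y : G) * ρ (z : G)
        rw [← map_mul, ← map_mul]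
        congr 1
        exact (congrArg Subtype.val (Subgroup.mem_center_iff.1 hz.2 y)).symm
      have h1 : (z : G) ∈ (P : Subgroup G) := Subgroup.mem_subgroupOf.1 hz.1
      exact Subgroup.mem_bot.1 (hZ ▸ Subgroup.mem_inf.2
        ⟨h1, center_of_scalar ρ (fun g hg => hfaith g (by rw [← hρχ]; exact hg)) hc⟩)
    have h1 := ih _ hlt M rfl P' hP'n _ hM
      (fun g hg => Subtype.ext (hfaith g (by simpa using hg))) (by rw [← hdeg]; rfl) hZ'
    exact ((Nat.card_congr (Subgroup.subgroupOfEquivOfLe hPM).toEquiv).symm).trans h1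

/-- The reduction used for linear groups of small degree. -/
theorem exists_reduced {G : Type u} [Group G] [Finite G] {p : ℕ} [Fact p.Prime] (hp7 : 7 ≤ p)
    (P : Sylow p G) (hnn : ¬ (P : Subgroup G).Normal) (χ : G → ℂ) (hχ : IsIrrCharacter G χ)
    (hfaith : ∀ g : G, χ g = χ 1 → g = 1) (hdeg : H12.degree χ + 2 ≤ p) :
    ∃ (K : Subgroup G) (_ : K.Normal), K ≤ Subgroup.center G ∧
      (∀ g : G, (g : G ⧸ K) ∈ Subgroup.center (G ⧸ K) → g ∈ Subgroup.center G) ∧
      ∃ Q : Sylow p (G ⧸ K), Nat.card Q = p ∧ ¬ (Q : Subgroup (G ⧸ K)).Normal ∧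
        ∃ ζ : G ⧸ K → ℂ, IsIrrCharacter (G ⧸ K) ζ ∧ (∀ g, ζ g = ζ 1 → g = 1) ∧
          H12.degree ζ = H12.degree χ := by
  obtain ⟨K, hKn, ψ, -, hKZ, -, hcentre, -, hψf, hψd, hQn, hQZ⟩ :=
    exists_quotient P hnn hχ hfaith rfl hdeg
  exact ⟨K, hKn, hKZ, hcentre, P.mapSurjective (QuotientGroup.mk'_surjective K),
    red_all p _ (Or.inl hp7) hdeg (G ⧸ K) _ hQn _ ψ.2 hψf hψd hQZ, hQn, _, ψ.2, hψf, hψd⟩

/-- Degree two at the prime five. -/
theorem exists_reduced_two {G : Type u} [Group G] [Finite G] {p : ℕ} [Fact p.Prime] (hp5 : p = 5)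
    (P : Sylow p G) (hnn : ¬ (P : Subgroup G).Normal) (χ : G → ℂ) (hχ : IsIrrCharacter G χ)
    (hfaith : ∀ g : G, χ g = χ 1 → g = 1) (hdeg : H12.degree χ = 2) :
    ∃ (K : Subgroup G) (_ : K.Normal), K ≤ Subgroup.center G ∧
      (∀ g : G, (g : G ⧸ K) ∈ Subgroup.center (G ⧸ K) → g ∈ Subgroup.center G) ∧
      ∃ Q : Sylow p (G ⧸ K), Nat.card Q = p ∧ ¬ (Q : Subgroup (G ⧸ K)).Normal ∧
        ∃ ζ : G ⧸ K → ℂ, IsIrrCharacter (G ⧸ K) ζ ∧ (∀ g, ζ g = ζ 1 → g = 1) ∧
          H12.degree ζ = 2 := by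
  obtain ⟨K, hKn, ψ, -, hKZ, -, hcentre, -, hψf, hψd, hQn, hQZ⟩ :=
    exists_quotient P hnn hχ hfaith hdeg (by omega)
  exact ⟨K, hKn, hKZ, hcentre, P.mapSurjective (QuotientGroup.mk'_surjective K),
    red_all p 2 (Or.inr ⟨by omega, le_rfl⟩) (by omega) (G ⧸ K) _ hQn _ ψ.2 hψf hψd hQZ, hQn, _, ψ.2,
    hψf, hψd⟩

end H14.SmallDeg
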