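import Cfsg.Agent.H14.SmallDeg.Eigen

/-!
Trivial intersection and separation of the Sylow subgroups by centralizers.
-/

set_option autoImplicit false
set_option linter.style.haveILetI false
set_option linter.unusedSectionVars false

open Cfsg Module
open scoped ComplexConjugate commutatorElement

namespace H14.SmallDeg

universe u v

variable {G : Type u} [Group G] [Finite G] {p : ℕ} [hp : Fact p.Prime] {χ : G → ℂ} {n : ℕ}

theorem zpowers_comm (x : G) (a b : Subgroup.zpowers x) : a * b = b * a := by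
  obtain ⟨s, hs⟩ := Subgroup.mem_zpowers_iff.1 a.2
  obtain ⟨t, ht⟩ := Subgroup.mem_zpowers_iff.1 b.2
  exact Subtype.ext (by push_cast; rw [← hs, ← ht, ← zpow_add, ← zpow_add, add_comm])

theorem pelt_zpowers {x : G} (hx : IsPElt p x) : ∀ y ∈ Subgroup.zpowers x, IsPElt p y := by
  intro y hy
  obtain ⟨t, rfl⟩ := Subgroup.mem_zpowers_iff.1 hy
  obtain ⟨k, hk⟩ := hx
  exact ⟨k, by rw [← zpow_natCast, ← zpow_mul, mul_comm, zpow_mul, zpow_natCast, hk, one_zpow]⟩

/-- An element acting by a scalar on a big constituent of a subgroup is trivial. -/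
theorem Ctx.eq_one_of_scalar (h : Ctx p χ n) {C : Subgroup G} {m : IrrCharacter C → ℕ}
    (hm : (fun c : C => χ c) = ∑ ψ, (m ψ : ℂ) • (ψ : C → ℂ)) {φ : IrrCharacter C} (hφ : m φ ≠ 0)
    (hbig : p ≤ 2 * H12.degree (φ : C → ℂ) + 1) {x : C} (hx : IsPElt p (x : G))
    (hc : prj φ x ∈ Subgroup.center (C ⧸ H24.kerChar φ)) : x = 1 := by
  classical
  obtain ⟨φ', hφ'⟩ := H24.exists_deflate (H24.kerChar φ) φ le_rfl
  set B := Subgroup.zpowers (x : G) with hB
  haveI := Fintype.ofFinite B
  have hBC : B ≤ C := Subgroup.zpowers_le.2 x.2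
  set κ := Subgroup.inclusion hBC with hκ
  have hBc : ∀ a b : B, a * b = b * a := zpowers_comm (x : G)
  obtain ⟨l, h1, -⟩ := exists_mu_central φ'.2 hBc ((prj φ).comp κ) fun b g => by
    obtain ⟨t, ht⟩ := Subgroup.mem_zpowers_iff.1 b.2
    have h2 : κ b = x ^ t := Subtype.ext (by rw [Subgroup.coe_zpow, ht]; rfl)
    rw [MonoidHom.comp_apply, h2, map_zpow]
    exact Subgroup.mem_center_iff.1 (zpow_mem hc t) g
  have h1' : mu (φ : C → ℂ) κ l = H12.degree (φ : C → ℂ) := by
    rw [← hφ']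
    exact h1
  have h3 : p ≤ 2 * mu χ B.subtype l + 1 := by
    rw [mu_via h hBC hm, ← hκ]
    have h4 := Finset.single_le_sum (f := fun ψ : IrrCharacter C => m ψ * mu (ψ : C → ℂ) κ l)
      (fun _ _ => Nat.zero_le _) (Finset.mem_univ φ)
    have h5 := Nat.le_mul_of_pos_left (H12.degree (φ : C → ℂ)) (Nat.pos_of_ne_zero hφ)
    rw [h1'] at h4
    omega
  have h6 := h.eq_bot_of_mult B (pelt_zpowers hx)
    (fun a ha b hb => congrArg Subtype.val (hBc ⟨a, ha⟩ ⟨b, hb⟩)) l h3
  exact Subtype.ext ((Subgroup.eq_bot_iff_forall B).1 h6 _ (Subgroup.mem_zpowers _))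

/-- The centralizer of a nontrivial `p`-element has normal Sylow subgroups. -/
theorem Ctx.centralizer_normal (h : Ctx p χ n) {x : G} (hx : IsPElt p x) (hx1 : x ≠ 1)
    (R : Sylow p (Subgroup.centralizer ({x} : Set G))) :
    (R : Subgroup (Subgroup.centralizer ({x} : Set G))).Normal := by
  classical
  obtain ⟨m, hm⟩ := H12.IsCharacter.exists_mult
    (H12.IsCharacter.res (H12.isCharacter_of_isIrrCharacter h.irr)
      (Subgroup.centralizer ({x} : Set G)))
  refine normal_of_constituents R (fun g hg => Subtype.ext (h.faith g (by simpa using hg))) hm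
    fun φ hφ => ?_
  by_contra hbig
  have hxC : x ∈ Subgroup.centralizer ({x} : Set G) := Subgroup.mem_centralizer_singleton_iff.2 rfl
  have h1 := h.eq_one_of_scalar hm hφ (by omega) (x := ⟨x, hxC⟩) hx (by
    refine Subgroup.mem_center_iff.2 fun w => ?_
    obtain ⟨w', rfl⟩ := QuotientGroup.mk'_surjective _ w
    rw [← map_mul, ← map_mul]
    congr 1
    exact Subtype.ext (Subgroup.mem_centralizer_singleton_iff.1 w'.2))
  exact hx1 (congrArg Subtype.val h1)

/-- A `p`-element centralizing a nontrivial element of a Sylow subgroup lies in it. -/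
theorem Ctx.mem_of_commute (h : Ctx p χ n) (A : Sylow p G) {x y : G} (hxA : x ∈ (A : Subgroup G))
    (hx1 : x ≠ 1) (hy : IsPElt p y) (hc : y * x = x * y) : y ∈ (A : Subgroup G) := by
  have hAC : (A : Subgroup G) ≤ Subgroup.centralizer ({x} : Set G) := fun w hw =>
    Subgroup.mem_centralizer_singleton_iff.2 (h.comm A w hw x hxA)
  have hyC : y ∈ Subgroup.centralizer ({x} : Set G) :=
    Subgroup.mem_centralizer_singleton_iff.2 hc
  have h1 : (⟨y, hyC⟩ : Subgroup.centralizer ({x} : Set G)) ∈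
      ((A.subtype hAC : Sylow p _) : Subgroup (Subgroup.centralizer ({x} : Set G))) :=
    mem_sylow_of_normal _ (h.centralizer_normal (exists_pow_of_mem_sylow A hxA) hx1 _)
      (hy.of_map (Subgroup.centralizer ({x} : Set G)).subtype Subtype.coe_injective)
  rw [Sylow.coe_subtype, Subgroup.mem_subgroupOf] at h1
  exact h1

/-- Trivial intersection. -/
theorem Ctx.trivial_inter (h : Ctx p χ n) (A B : Sylow p G) {x : G} (hxA : x ∈ (A : Subgroup G))
    (hxB : x ∈ (B : Subgroup G)) (hx1 : x ≠ 1) : A = B := by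
  refine Sylow.ext (le_antisymm (fun y hy => ?_) fun y hy => ?_)
  · exact h.mem_of_commute B hxB hx1 (exists_pow_of_mem_sylow A hy) (h.comm A y hy x hxA)
  · exact h.mem_of_commute A hxA hx1 (exists_pow_of_mem_sylow B hy) (h.comm B y hy x hxB)

/-- A small constituent of a group generated by `p`-elements has abelian image. -/
theorem commutator_le_ker {L : Type v} [Group L] [Finite L] {S : Set L}
    (hgen : Subgroup.closure S = ⊤) (hS : ∀ x ∈ S, IsPElt p x) (ψ : IrrCharacter L)
    (hd : 2 * H12.degree (ψ : L → ℂ) + 1 < p) : commutator L ≤ H24.kerChar ψ := by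
  have hpair : ∀ x ∈ (prj ψ) '' S, ∀ y ∈ (prj ψ) '' S, Commute x y := by
    rintro _ ⟨x, hx, rfl⟩ _ ⟨y, hy, rfl⟩
    show prj ψ x * prj ψ y = prj ψ y * prj ψ x
    rw [← map_mul, ← map_mul, ← mul_inv_eq_one, ← map_inv, ← map_mul]
    exact (QuotientGroup.eq_one_iff _).2 (commute_mem_ker ψ hd (hS x hx) (hS y hy))
  haveI := Subgroup.isMulCommutative_closure hpair
  have hmem : ∀ z : L, prj ψ z ∈ Subgroup.closure ((prj ψ) '' S) := fun z => by
    rw [← MonoidHom.map_closure, hgen]
    exact Subgroup.mem_map_of_mem _ (Subgroup.mem_top z)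
  rw [commutator_def]
  refine Subgroup.commutator_le.2 fun x _ y _ => (QuotientGroup.eq_one_iff _).1 ?_
  show prj ψ ⁅x, y⁆ = 1
  rw [map_commutatorElement, commutatorElement_eq_one_iff_mul_comm]
  exact congrArg Subtype.val
    (mul_comm' (⟨_, hmem x⟩ : Subgroup.closure ((prj ψ) '' S)) ⟨_, hmem y⟩)

/-- Two Sylow subgroups meeting the centralizer of a non-central element coincide, or the Sylow
subgroups have order `p`. -/
theorem Ctx.sep (h : Ctx p χ n) {g : G} (hg : g ∉ Subgroup.center G) (A B : Sylow p G) {x y : G}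
    (hxA : x ∈ (A : Subgroup G)) (hx1 : x ≠ 1) (hgx : g * x = x * g)
    (hyB : y ∈ (B : Subgroup G)) (hy1 : y ≠ 1) (hgy : g * y = y * g) :
    A = B ∨ Nat.card A ≤ p := by
  classical
  by_cases hcomm : y * x = x * y
  · exact Or.inl (h.trivial_inter A B (h.mem_of_commute A hxA hx1 (exists_pow_of_mem_sylow B hyB)
      hcomm) hyB hy1)
  right
  set S : Set G := {z | IsPElt p z ∧ g * z = z * g} with hS
  set L := Subgroup.closure S with hL
  have hmemL : ∀ z, IsPElt p z → g * z = z * g → z ∈ L := fun z h1 h2 =>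
    Subgroup.subset_closure ⟨h1, h2⟩
  have hgL : ∀ z ∈ L, z * g = g * z := fun z hz => by
    have hle : L ≤ Subgroup.centralizer ({g} : Set G) := (Subgroup.closure_le _).2 fun w hw =>
      Subgroup.mem_centralizer_singleton_iff.2 hw.2.symm
    exact Subgroup.mem_centralizer_singleton_iff.1 (hle hz)
  have hgenL : Subgroup.closure {z : L | (z : G) ∈ S} = ⊤ :=
    Subgroup.closure_closure_coe_preimage (k := S)
  have hpL : ∀ z ∈ {z : L | (z : G) ∈ S}, IsPElt p z := fun z hz =>
    hz.1.of_map L.subtype L.subtype_injective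
  haveI := Fintype.ofFinite L
  have hpx := exists_pow_of_mem_sylow A hxA
  have hpy := exists_pow_of_mem_sylow B hyB
  set x' : L := ⟨x, hmemL x hpx hgx⟩ with hx'
  set y' : L := ⟨y, hmemL y hpy hgy⟩ with hy'
  have hχL : IsCharacter L (fun z : L => χ z) :=
    H12.IsCharacter.res (H12.isCharacter_of_isIrrCharacter h.irr) L
  have hdegL : H12.degree (fun z : L => χ z) = n := by rw [← h.deg]; rfl
  obtain ⟨m, hm⟩ := H12.IsCharacter.exists_mult hχL
  obtain ⟨φ, hφ, hφxy⟩ : ∃ φ : IrrCharacter L, m φ ≠ 0 ∧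
      x' * y' * (y' * x')⁻¹ ∉ H24.kerChar φ := by
    by_contra! hall
    refine hcomm (mul_inv_eq_one.1 (h.faith _ ?_)).symm
    have h1 : (fun z : L => χ z) (x' * y' * (y' * x')⁻¹) = (fun z : L => χ z) 1 := by
      rw [hm, Finset.sum_apply, Finset.sum_apply]
      refine Finset.sum_congr rfl fun ψ _ => ?_
      rcases Nat.eq_zero_or_pos (m ψ) with h0 | h0
      · simp [h0]
      · simp only [Pi.smul_apply]
        rw [H24.mem_kerChar.1 (hall ψ h0.ne')]
    exact h1
  have hpx' : IsPElt p x' := IsPElt.of_map L.subtype L.subtype_injective hpx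
  have hpy' : IsPElt p y' := IsPElt.of_map L.subtype L.subtype_injective hpy
  have hbig : p ≤ 2 * H12.degree (φ : L → ℂ) + 1 := by
    by_contra hlt
    exact hφxy (commute_mem_ker φ (by omega) hpx' hpy')
  obtain ⟨hm1, hrest⟩ := small_of_ne hχL hm (by rw [hdegL]; exact h.small) hφ hbig
  obtain ⟨k, ρ, hρ, hρχ⟩ := id h.irr
  have hk : k = n := by rw [← h.deg, ← hρχ, H12.degree_character, finrank_fin_fun]
  have hfρ : ∀ z : G, ρ.character z = ρ.character 1 → z = 1 := fun z hz =>
    h.faith z (by rw [← hρχ]; exact hz)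
  have hle : H12.degree (φ : L → ℂ) ≤ n := by
    rw [← hdegL, degree_le_of_sum hχL hm]
    exact (Nat.le_mul_of_pos_left _ (Nat.pos_of_ne_zero hφ)).trans
      (Finset.single_le_sum (f := fun i : IrrCharacter L => m i * H12.degree (i : L → ℂ))
        (fun i _ => Nat.zero_le _) (Finset.mem_univ φ))
  have hlt : H12.degree (φ : L → ℂ) < n := by
    refine lt_of_le_of_ne hle fun he => hg ?_
    have hzero : ∀ ψ, ψ ≠ φ → m ψ = 0 := fun ψ hψ => by
      by_contra h0
      have h1 := (hrest ψ hψ h0).2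
      have h2 := Nat.mul_pos (Nat.pos_of_ne_zero h0) (H12.irr_degree_pos ψ)
      rw [hdegL, he] at h1
      omega
    let σ : Representation ℂ L (Fin k → ℂ) := ρ.comp L.subtype
    have hσ : σ.character = (φ : L → ℂ) := funext fun z => by
      have h1 := congrFun hm z
      rw [Finset.sum_apply, Finset.sum_eq_single φ (fun i _ hi => by simp [hzero i hi]) (by simp),
        hm1, Nat.cast_one, one_smul] at h1
      rw [← h1, ← hρχ]
      rfl
    haveI := H15.HalfDeg.isIrreducible_of_irr σ φ hσ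
    obtain ⟨c, hc⟩ := H12.exists_scalar_of_commute σ (ρ g) fun z => by
      show ρ g * ρ (z : G) = ρ (z : G) * ρ g
      rw [← map_mul, ← map_mul, hgL z z.2]
    exact center_of_scalar ρ hfρ hc
  have hApg : IsPGroup p ((A : Subgroup G).subgroupOf L) := fun z => by
    obtain ⟨i, hi⟩ := exists_pow_of_mem_sylow A z.2
    exact ⟨i, Subtype.ext (Subtype.ext hi)⟩
  obtain ⟨R, hR⟩ := hApg.exists_le_sylow
  have hxR : x' ∈ (R : Subgroup L) := hR (Subgroup.mem_subgroupOf.2 hxA)
  have hn : ¬ ((R : Subgroup L).map (prj φ)).Normal := fun hN => hφxy (by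
    have he := image_commute φ (by have := h.small; omega) R hN hpx' hpy'
    rw [← map_mul, ← map_mul, ← mul_inv_eq_one, ← map_inv, ← map_mul] at he
    exact (QuotientGroup.eq_one_iff _).1 he)
  obtain ⟨hfree, hfix, ⟨r₀, hr₀R, hr₀D, hr₀1⟩, hgen⟩ := h.image_data φ hlt R hn
  have hinj : ∀ r ∈ (R : Subgroup L), prj φ r ∈ Subgroup.center (L ⧸ H24.kerChar φ) → r = 1 :=
    fun r hr hc => h.eq_one_of_scalar hm hφ hbig (pelt_of_mem hr) hc
  have hpow : ∀ a ∈ (R : Subgroup L), a ≠ 1 → ∀ r ∈ (R : Subgroup L), ∃ i : ℤ, a ^ i = r := by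
    intro a ha ha1 r hr
    obtain ⟨i, hi⟩ := hgen a ha (fun hc => ha1 (hinj a ha hc)) r hr
    exact ⟨i, inv_mul_eq_one.1 (hinj _ (mul_mem (inv_mem (zpow_mem ha i)) hr) hi)⟩
  have hx'1 : x' ≠ 1 := fun he => hx1 (congrArg Subtype.val he)
  have hxD : x' ∈ commutator L := by
    obtain ⟨i, hi⟩ := hpow r₀ hr₀R (fun he => hr₀1 (by rw [he, map_one])) x' hxR
    exact hi ▸ zpow_mem hr₀D i
  have hRp : Nat.card R ≤ p := by
    have hxp : x' ^ p = 1 := by
      by_contra hne
      obtain ⟨i, hi⟩ := hpow (x' ^ p) (pow_mem hxR p) hne x' hxR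
      have h1 : x' ^ ((p : ℤ) * i - 1) = 1 := by
        rw [zpow_sub, zpow_mul, zpow_natCast, hi, zpow_one, mul_inv_cancel]
      have h2 := orderOf_dvd_iff_zpow_eq_one.2 h1
      obtain ⟨a, ha⟩ := hpx'
      obtain ⟨j, -, hj⟩ := (Nat.dvd_prime_pow hp.out).1 (orderOf_dvd_of_pow_eq_one ha)
      rcases Nat.eq_zero_or_pos j with h0 | h0
      · rw [h0, pow_zero, orderOf_eq_one_iff] at hj
        exact hx'1 hj
      · have h3 : (p : ℤ) ∣ (p : ℤ) * i - 1 :=
          (Int.natCast_dvd_natCast.2 ((dvd_pow_self p h0.ne').trans hj.symm.dvd)).trans h2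
        have h4 : (p : ℤ) ∣ 1 := by
          have h5 := dvd_sub (dvd_mul_right (p : ℤ) i) h3
          simpa using h5
        exact hp.out.not_dvd_one (Int.natCast_dvd_natCast.1 (by simpa using h4))
    have hsub : (R : Subgroup L) ≤ Subgroup.zpowers x' := fun r hr =>
      Subgroup.mem_zpowers_iff.2 (hpow x' hxR hx'1 r hr)
    refine (Nat.card_le_card_of_injective _ (Subgroup.inclusion_injective hsub)).trans ?_
    rw [Nat.card_zpowers]
    exact orderOf_le_of_pow_eq_one hp.out.pos hxp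
  -- every element of `A` commutes with `g`
  have hAL : (A : Subgroup G) ≤ L := by
    intro w hw
    refine hmemL w (exists_pow_of_mem_sylow A hw) ?_
    set c := w * (g * w⁻¹ * g⁻¹) with hc
    have hcA : c ∈ (A : Subgroup G) := by
      refine mul_mem hw (h.mem_of_commute A hxA hx1
        (IsPElt.conj (exists_pow_of_mem_sylow A (inv_mem hw)) g) ?_)
      have h1 : Commute g x := hgx
      have h2 : Commute w⁻¹ x := (show Commute w x from h.comm A w hw x hxA).inv_left
      exact (((h1.mul_left h2).mul_left h1.inv_left : Commute (g * w⁻¹ * g⁻¹) x))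
    suffices hc1 : c = 1 by
      rw [hc, mul_eq_one_iff_eq_inv] at hc1
      have h3 : w = g * w * g⁻¹ := hc1.trans (by group)
      calc g * w = g * w * g⁻¹ * g := by group
        _ = w * g := by rw [← h3]
    set Bx := Subgroup.zpowers x with hBx
    haveI := Fintype.ofFinite Bx
    have hBxL : Bx ≤ L := Subgroup.zpowers_le.2 x'.2
    set κ := Subgroup.inclusion hBxL with hκ
    have hκv : ∀ b : Bx, ∃ t : ℤ, κ b = x' ^ t := fun b => by
      obtain ⟨t, ht⟩ := Subgroup.mem_zpowers_iff.1 b.2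
      exact ⟨t, Subtype.ext (by rw [Subgroup.coe_zpow, ht]; rfl)⟩
    haveI : Finite (Bx →* ℂˣ) := Finite.of_injective H12.linIrr H12.linIrr_injective
    haveI := Fintype.ofFinite (Bx →* ℂˣ)
    have hBc : ∀ a b : Bx, a * b = b * a := zpowers_comm x
    have hF1 : ∀ l : Bx →* ℂˣ, mu (φ : L → ℂ) κ l ≤ 1 := hfree Bx κ
      (fun b => by obtain ⟨t, ht⟩ := hκv b; rw [ht]; exact zpow_mem hxR t)
      ⟨⟨x, Subgroup.mem_zpowers x⟩, fun hcen => hx'1 (hinj x' hxR hcen)⟩
    have hFsum := (sum_mu hBc (H12.isCharacter_irr φ) κ).1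
    have hone : ∀ ψ, ψ ≠ φ → m ψ ≠ 0 → ∀ l : Bx →* ℂˣ, l ≠ 1 → mu (ψ : L → ℂ) κ l = 0 := by
      intro ψ hψ hψ0 l hl
      have hker := commutator_le_ker hgenL hpL ψ (hrest ψ hψ hψ0).1 hxD
      have hval : ∀ b : Bx, (ψ : L → ℂ) (κ b) = ((1 : Bx →* ℂˣ) b : ℂ) * (ψ : L → ℂ) 1 := by
        intro b
        obtain ⟨t, ht⟩ := hκv b
        rw [ht, H24.mem_kerChar.1 (zpow_mem hker t), MonoidHom.one_apply, Units.val_one, one_mul]
      have h1 : (mu (ψ : L → ℂ) κ l : ℂ) = 0 := by
        rw [mu_cast (H12.isCharacter_irr ψ), show (fun b : Bx => (ψ : L → ℂ) (κ b)) =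
          ((ψ : L → ℂ) 1) • (H12.linIrr (1 : Bx →* ℂˣ) : Bx → ℂ) from funext fun b => by
            rw [hval, Pi.smul_apply, smul_eq_mul, H12.linIrr_apply, mul_comm],
          H12.classInner_smul_left, show (fun b : Bx => (l b : ℂ)) = (H12.linIrr l : Bx → ℂ) from rfl,
          H12.classInner_irr_ne fun he => hl (H12.linIrr_injective he).symm, mul_zero]
      exact_mod_cast h1
    set T := (Finset.univ : Finset (Bx →* ℂˣ)).filter
      fun l => l ≠ 1 ∧ mu (φ : L → ℂ) κ l ≠ 0 with hT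
    obtain ⟨q, hq⟩ : ∃ q, p = 2 * q + 1 :=
      hp.out.odd_of_ne_two (by have := h.seven; omega)
    have hTcard : q ≤ T.card := by
      rw [← Finset.add_sum_erase _ _ (Finset.mem_univ (1 : Bx →* ℂˣ))] at hFsum
      have h1 : ∑ l ∈ Finset.univ.erase (1 : Bx →* ℂˣ), mu (φ : L → ℂ) κ l ≤ T.card := by
        rw [Finset.card_eq_sum_ones, hT, Finset.sum_filter, ← Finset.add_sum_erase _ _
          (Finset.mem_univ (1 : Bx →* ℂˣ))]
        refine le_add_left (Finset.sum_le_sum fun l hl => ?_)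
        have := hF1 l
        by_cases h0 : mu (φ : L → ℂ) κ l = 0
        · rw [h0]; exact Nat.zero_le _
        · rw [if_pos ⟨(Finset.mem_erase.1 hl).1, h0⟩]; exact this
      by_cases hd : 2 * H12.degree (φ : L → ℂ) + 1 = p
      · have h2 := hfix hd Bx κ (fun b => by
          obtain ⟨t, ht⟩ := hκv b; rw [ht]; exact ⟨zpow_mem hxR t, zpow_mem hxD t⟩)
          ⟨⟨x, Subgroup.mem_zpowers x⟩, fun hk1 => hx'1 (hinj x' hxR (by
            show prj φ (κ ⟨x, Subgroup.mem_zpowers x⟩) ∈ _
            rw [hk1]; exact one_mem _))⟩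
        omega
      · have := hF1 1
        omega
    have hlines : ∀ l ∈ T, ∃ v : Fin k → ℂ, v ≠ 0 ∧
        ρ x v = (l ⟨x, Subgroup.mem_zpowers x⟩ : ℂ) • v ∧ ρ c v = v := by
      intro l hl
      obtain ⟨hl1, hl0⟩ := (Finset.mem_filter.1 hl).2
      have hmu : finrank ℂ (esp ρ Bx.subtype l) = 1 := by
        rw [← mu_eq_finrank, hρχ, mu_via h hBxL hm, ← hκ, ← Finset.add_sum_erase _ _
          (Finset.mem_univ φ), Finset.sum_eq_zero fun ψ hψ => ?_, hm1, one_mul, add_zero]
        · have := hF1 l; omega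
        · rcases Nat.eq_zero_or_pos (m ψ) with h0 | h0
          · rw [h0, zero_mul]
          · rw [hone ψ (Finset.mem_erase.1 hψ).1 h0.ne' l hl1, mul_zero]
      obtain ⟨⟨v, hv⟩, hv0, hsp⟩ := finrank_eq_one_iff'.1 hmu
      have hv0' : v ≠ 0 := fun he => hv0 (Subtype.ext he)
      have hsc : ∀ w : G, w * x = x * w → ∃ a : ℂ, ρ w v = a • v := by
        intro w hw
        have hmem : ρ w v ∈ esp ρ Bx.subtype l := mem_esp.2 fun b => by
          obtain ⟨t, ht⟩ := Subgroup.mem_zpowers_iff.1 b.2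
          have hwb : (b : G) * w = w * b := by
            rw [← ht]
            exact ((show Commute w x from hw).zpow_right t).eq.symm
          show ρ (b : G) (ρ w v) = _
          rw [← Module.End.mul_apply, ← map_mul, hwb, map_mul, Module.End.mul_apply,
            show ρ (b : G) v = (l b : ℂ) • v from mem_esp.1 hv b, map_smul]
        obtain ⟨a, ha⟩ := hsp ⟨_, hmem⟩
        exact ⟨a, (congrArg Subtype.val ha).symm⟩
      refine ⟨v, hv0', mem_esp.1 hv ⟨x, Subgroup.mem_zpowers x⟩, ?_⟩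
      obtain ⟨a, ha⟩ := hsc g hgx
      obtain ⟨b, hb⟩ := hsc w (h.comm A w hw x hxA)
      have hgi : ρ g⁻¹ (ρ g v) = v := by
        rw [← Module.End.mul_apply, ← map_mul, inv_mul_cancel, map_one, Module.End.one_apply]
      have hwi : ρ w⁻¹ (ρ w v) = v := by
        rw [← Module.End.mul_apply, ← map_mul, inv_mul_cancel, map_one, Module.End.one_apply]
      rw [hb, map_smul] at hwi
      rw [ha, map_smul] at hgi
      have ha0 : a ≠ 0 := fun h0 => hv0' (by rw [h0, zero_smul] at hgi; exact hgi.symm)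
      have hb0 : b ≠ 0 := fun h0 => hv0' (by rw [h0, zero_smul] at hwi; exact hwi.symm)
      have hgi' : ρ g⁻¹ v = a⁻¹ • v := (eq_inv_smul_iff₀ ha0).2 hgi
      have hwi' : ρ w⁻¹ v = b⁻¹ • v := (eq_inv_smul_iff₀ hb0).2 hwi
      rw [hc, map_mul, map_mul, map_mul]
      simp only [Module.End.mul_apply]
      simp only [hgi', map_smul, hwi', ha, hb, smul_smul]
      rw [show a⁻¹ * b⁻¹ * a * b = (a⁻¹ * a) * (b⁻¹ * b) by ring, inv_mul_cancel₀ ha0,
        inv_mul_cancel₀ hb0, one_mul, one_smul]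
    choose! v hv0 hvx hvc using hlines
    set Bc := Subgroup.zpowers c with hBc'
    haveI := Fintype.ofFinite Bc
    have hfix_mem : ∀ l ∈ T, v l ∈ esp ρ Bc.subtype 1 := fun l hl => mem_esp.2 fun b => by
      obtain ⟨t, ht⟩ := Subgroup.mem_zpowers_iff.1 b.2
      have hstab : ∀ t : ℤ, ρ (c ^ t) (v l) = v l := by
        intro t
        induction t using Int.induction_on with
        | zero => simp
        | succ i ih =>
          rw [zpow_add_one, map_mul, Module.End.mul_apply, hvc l hl, ih]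
        | pred i ih =>
          have h2 : ρ c⁻¹ (v l) = v l := by
            conv_lhs => rw [← hvc l hl, ← Module.End.mul_apply, ← map_mul, inv_mul_cancel, map_one,
              Module.End.one_apply]
          rw [zpow_sub_one, map_mul, Module.End.mul_apply, h2, ih]
      show ρ (b : G) (v l) = _
      rw [← ht, hstab, MonoidHom.one_apply, Units.val_one, one_smul]
    let ev : ↥T → ℂ := fun l => ((l : Bx →* ℂˣ) ⟨x, Subgroup.mem_zpowers x⟩ : ℂ)
    have hev : Function.Injective ev := fun l l' he =>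
      Subtype.ext (hom_zpowers_ext (Units.ext he))
    have hli : LinearIndependent ℂ (fun l : ↥T => v l) :=
      Module.End.eigenvectors_linearIndependent' (ρ x) ev hev _ fun l =>
        ⟨Module.End.mem_eigenspace_iff.2 (hvx l l.2), hv0 l l.2⟩
    have hli' : LinearIndependent ℂ
        (fun l : ↥T => (⟨v l, hfix_mem l l.2⟩ : esp ρ Bc.subtype 1)) :=
      LinearIndependent.of_comp (esp ρ Bc.subtype 1).subtype hli
    have hcard := hli'.fintype_card_le_finrank
    rw [Fintype.card_coe, ← mu_eq_finrank, hρχ] at hcard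
    have h2 := h.eq_bot_of_mult Bc (pelt_zpowers (exists_pow_of_mem_sylow A hcA))
      (fun a ha b hb => congrArg Subtype.val (zpowers_comm c ⟨a, ha⟩ ⟨b, hb⟩)) 1 (by omega)
    exact (Subgroup.eq_bot_iff_forall Bc).1 h2 c (Subgroup.mem_zpowers c)
  have h1 : Nat.card A ≤ Nat.card R := by
    rw [← Nat.card_congr (Subgroup.subgroupOfEquivOfLe hAL).toEquiv]
    exact Nat.card_le_card_of_injective _ (Subgroup.inclusion_injective hR)
  exact h1.trans hRp

end H14.SmallDeg
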