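import Cfsg.Agent.H14.SmallDegreeSylow
import Cfsg.Agent.H24.Quot
import Cfsg.Agent.S4503

/-!
Constituents of degree below `(p - 1) / 2`: `p`-elements commute modulo the kernel.
-/

set_option autoImplicit false
set_option linter.unusedSectionVars false
set_option linter.style.haveILetI false

open Cfsg
open scoped ComplexConjugate

namespace H14.SmallDeg

universe u

variable {G : Type u} [Group G] [Finite G] {p : ℕ} [hp : Fact p.Prime]

theorem exists_pow_of_mem_sylow (P : Sylow p G) {x : G} (hx : x ∈ (P : Subgroup G)) :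
    ∃ k, x ^ p ^ k = 1 := by
  obtain ⟨k, hk⟩ := P.isPGroup' ⟨x, hx⟩
  exact ⟨k, congrArg Subtype.val hk⟩

theorem mem_sylow_of_normal (P : Sylow p G) (hPn : (P : Subgroup G).Normal) {x : G}
    (hx : ∃ k, x ^ p ^ k = 1) : x ∈ (P : Subgroup G) := by
  obtain ⟨k, hk⟩ := hx
  obtain ⟨j, -, hj⟩ := (Nat.dvd_prime_pow hp.out).1 (orderOf_dvd_of_pow_eq_one hk)
  obtain ⟨Q, hQ⟩ := (IsPGroup.of_card (n := j) (by rw [Nat.card_zpowers, hj]) :
    IsPGroup p (Subgroup.zpowers x)).exists_le_sylow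
  haveI := Sylow.unique_of_normal P hPn
  rw [show P = Q from Subsingleton.elim _ _]
  exact hQ (Subgroup.mem_zpowers x)

theorem pow_map {K : Type*} [Group K] (f : G →* K) {x : G} (hx : ∃ k, x ^ p ^ k = 1) :
    ∃ k, (f x) ^ p ^ k = 1 := by
  obtain ⟨k, hk⟩ := hx
  exact ⟨k, by rw [← map_pow, hk, map_one]⟩

/-- Commuting `p`-elements all around make the Sylow subgroup normal. -/
theorem normal_of_commute (P : Sylow p G)
    (h : ∀ x y : G, (∃ k, x ^ p ^ k = 1) → (∃ k, y ^ p ^ k = 1) → x * y = y * x) :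
    (P : Subgroup G).Normal := by
  refine ⟨fun x hx g => ?_⟩
  obtain ⟨k, hk⟩ := exists_pow_of_mem_sylow P hx
  have hy : (g * x * g⁻¹) ^ p ^ k = 1 := by rw [conj_pow, hk, mul_one, mul_inv_cancel]
  have hyN : g * x * g⁻¹ ∈ Subgroup.normalizer ((P : Subgroup G) : Set G) :=
    Subgroup.centralizer_le_normalizer _ fun w hw =>
      h w _ (exists_pow_of_mem_sylow P hw) ⟨k, hy⟩
  obtain ⟨j, -, hj⟩ := (Nat.dvd_prime_pow hp.out).1 (orderOf_dvd_of_pow_eq_one hy)
  have h2 : IsPGroup p (Subgroup.zpowers (g * x * g⁻¹)) :=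
    IsPGroup.of_card (n := j) (by rw [Nat.card_zpowers, hj])
  exact ((SetLike.ext_iff.1 (h2.inf_normalizer_sylow P) _).1
    (Subgroup.mem_inf.2 ⟨Subgroup.mem_zpowers _, hyN⟩)).2

/-- A faithful character of degree below `(p - 1) / 2` has a normal Sylow subgroup. -/
theorem normal_of_small (P : Sylow p G) {χ : G → ℂ} (hχ : IsCharacter G χ)
    (hfaith : ∀ g : G, χ g = χ 1 → g = 1) (hd : 2 * H12.degree χ + 1 < p) :
    (P : Subgroup G).Normal := by
  classical
  refine SmallDegree.sylow_normal χ hχ hfaith (n := H12.degree χ)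
    (H12.IsCharacter.apply_one_eq_degree hχ) ⟨by omega, Or.inr fun K hK Q => ?_⟩ P
  by_cases hdiv : p ∣ Nat.card K
  · by_contra hQ
    have hQc : Nat.card Q = p := by
      rw [Q.card_eq_multiplicity, show (Nat.card K).factorization p = 1 from ?_, pow_one]
      have h1 := Nat.Prime.factorization_pos_of_dvd hp.out Nat.card_pos.ne' hdiv
      have h2 : ¬ 2 ≤ (Nat.card K).factorization p := fun h =>
        hK ((hp.out.pow_dvd_iff_le_factorization Nat.card_pos.ne').2 h)
      omega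
    have hfK : ∀ g : K, (fun k : K => χ k) g = (fun k : K => χ k) 1 → g = 1 := fun g hg =>
      Subtype.ext (hfaith g (by simpa using hg))
    haveI := Fintype.ofFinite K
    have hdK : charDegree (fun k : K => χ k) = H12.degree χ := by
      rw [H20.charDegree_eq_degree]; rfl
    have h := Cfsg.Agent.S4503.result p hp.out hdiv hK (fun H hH hHc => ?_) _
      (H12.IsCharacter.res hχ K) hfK
    · omega
    · obtain ⟨R, hR⟩ := (IsPGroup.of_card (n := 1) (by rw [hHc, pow_one]) :
        IsPGroup p H).exists_le_sylow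
      obtain ⟨g, hg⟩ := MulAction.exists_smul_eq K R Q
      have hHQ : H ≤ (Q : Subgroup K) := fun x hx => by
        rw [← hg, Sylow.coe_subgroup_smul, Subgroup.mem_pointwise_smul_iff_inv_smul_mem]
        exact hR (by simpa [MulAut.smul_def, mul_assoc] using hH.conj_mem x hx g⁻¹)
      have he : H = (Q : Subgroup K) := Subgroup.eq_of_le_of_card_ge hHQ (by rw [hHc, hQc])
      exact hQ (he ▸ hH)
  · have hQ1 : (Q : Subgroup K) = ⊥ := by
      rw [← Subgroup.card_eq_one, Q.card_eq_multiplicity, Nat.factorization_eq_zero_of_not_dvd hdiv,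
        pow_zero]
    rw [hQ1]
    infer_instance

/-- In a constituent of degree below `(p - 1) / 2`, `p`-elements commute. -/
theorem commute_mem_ker (ψ : IrrCharacter G) (hd : 2 * H12.degree (ψ : G → ℂ) + 1 < p) {x y : G}
    (hx : ∃ k, x ^ p ^ k = 1) (hy : ∃ k, y ^ p ^ k = 1) :
    x * y * (y * x)⁻¹ ∈ H24.kerChar ψ := by
  classical
  obtain ⟨φ, hφ⟩ := H24.exists_deflate (H24.kerChar ψ) ψ le_rfl
  obtain ⟨Q⟩ : Nonempty (Sylow p (G ⧸ H24.kerChar ψ)) := inferInstance
  have hdeg : H12.degree (φ : G ⧸ H24.kerChar ψ → ℂ) = H12.degree (ψ : G → ℂ) := by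
    conv_rhs => rw [← hφ]
    rfl
  have hfφ : ∀ g, (φ : G ⧸ H24.kerChar ψ → ℂ) g = (φ : G ⧸ H24.kerChar ψ → ℂ) 1 → g = 1 :=
    fun g hg => by
      have h := H24.kerChar_eq_bot_deflate ψ φ hφ
      exact (Subgroup.eq_bot_iff_forall _).1 h g (H24.mem_kerChar.2 hg)
  have hQn := normal_of_small Q (H12.isCharacter_irr φ) hfφ (by rw [hdeg]; exact hd)
  have hQc := SmallDegree.sylow_comm Q (H12.isCharacter_irr φ) hfφ (H12.irr_apply_one φ)
    (by rw [hdeg]; omega)
  have h1 := hQc _ (mem_sylow_of_normal Q hQn (pow_map (QuotientGroup.mk' _) hx)) _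
    (mem_sylow_of_normal Q hQn (pow_map (QuotientGroup.mk' _) hy))
  rw [← map_mul, ← map_mul, ← mul_inv_eq_one, ← map_inv, ← map_mul] at h1
  exact (QuotientGroup.eq_one_iff _).1 h1

/-- All constituents small: the Sylow subgroup is normal. -/
theorem normal_of_constituents (P : Sylow p G) {χ : G → ℂ}
    (hfaith : ∀ g : G, χ g = χ 1 → g = 1) {m : IrrCharacter G → ℕ}
    (hm : χ = ∑ ψ, (m ψ : ℂ) • (ψ : G → ℂ))
    (hd : ∀ ψ, m ψ ≠ 0 → 2 * H12.degree (ψ : G → ℂ) + 1 < p) : (P : Subgroup G).Normal := by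
  classical
  refine normal_of_commute P fun x y hx hy => mul_inv_eq_one.1 (hfaith _ ?_)
  rw [hm, Finset.sum_apply, Finset.sum_apply]
  refine Finset.sum_congr rfl fun ψ _ => ?_
  rcases Nat.eq_zero_or_pos (m ψ) with h | h
  · simp [h]
  · simp only [Pi.smul_apply]
    rw [H24.mem_kerChar.1 (commute_mem_ker ψ (hd ψ h.ne') hx hy)]

end H14.SmallDeg
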