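import Cfsg.Agent.H14.SmallDeg.Reduce
import Cfsg.Agent.H44.SmallPrime.Reflection
import Cfsg.Agent.H15.HalfDeg.Main
import Cfsg.Agent.H15.PSubTwo.Main

/-!
Degrees below the prime minus one for the primes three, five and seven, relative to the two
identifications for `(5, 3)` and `(7, 4)`.
-/

set_option autoImplicit false
set_option linter.style.haveILetI false
set_option linter.unusedSectionVars false

open Cfsg
open scoped ComplexConjugate

namespace H14.SmallDeg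

universe u

variable {G : Type u} [Group G] [Finite G] {p : ℕ} [hp : Fact p.Prime]

/-- Passing to a quotient by central elements does not change the group modulo the center. -/
noncomputable def centerQuotEquiv (K : Subgroup G) [K.Normal] (hK : K ≤ Subgroup.center G)
    (h : ∀ g : G, (g : G ⧸ K) ∈ Subgroup.center (G ⧸ K) → g ∈ Subgroup.center G) :
    (G ⧸ K) ⧸ Subgroup.center (G ⧸ K) ≃* G ⧸ Subgroup.center G :=
  ((QuotientGroup.quotientMulEquivOfEq (show Subgroup.center G =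
      ((QuotientGroup.mk' (Subgroup.center (G ⧸ K))).comp (QuotientGroup.mk' K)).ker from by
    ext g
    rw [MonoidHom.mem_ker, MonoidHom.comp_apply, QuotientGroup.mk'_apply, QuotientGroup.mk'_apply,
      QuotientGroup.eq_one_iff]
    refine ⟨fun hg => Subgroup.mem_center_iff.2 fun y => ?_, h g⟩
    obtain ⟨y, rfl⟩ := QuotientGroup.mk_surjective y
    rw [← QuotientGroup.mk_mul, ← QuotientGroup.mk_mul, Subgroup.mem_center_iff.1 hg y])).trans
    (QuotientGroup.quotientKerEquivOfSurjective _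
      ((QuotientGroup.mk'_surjective _).comp (QuotientGroup.mk'_surjective K)))).symm

/-- Half degree with a Sylow subgroup of order `p`. -/
theorem psl_half (Q : Sylow p G) (hQ : Nat.card Q = p) (hnn : ¬ (Q : Subgroup G).Normal)
    (ζ : G → ℂ) (hζ : IsIrrCharacter G ζ) (hfaith : ∀ g, ζ g = ζ 1 → g = 1)
    (hdeg : 2 * H12.degree ζ + 1 = p) :
    Nonempty ((G ⧸ Subgroup.center G) ≃* Matrix.ProjectiveSpecialLinearGroup (Fin 2) (ZMod p)) := by
  refine H15.HalfDeg.psl_of_half_degree hdeg (hQ ▸ Q.1.card_subgroup_dvd_card) (fun hd => ?_)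
    (fun K hK hKc => hnn ?_) ζ (H12.isCharacter_of_isIrrCharacter hζ) hfaith rfl
  · have h3 := (hp.out.pow_dvd_iff_le_factorization Nat.card_pos.ne').1 hd
    have h4 := Q.card_eq_multiplicity
    rw [hQ] at h4
    have := Nat.pow_right_injective hp.out.two_le ((pow_one p).trans h4)
    omega
  · obtain ⟨R, hR⟩ := (IsPGroup.of_card (n := 1) (by rw [hKc, pow_one]) :
      IsPGroup p K).exists_le_sylow
    obtain ⟨g, hg⟩ := MulAction.exists_smul_eq G R Q
    have hle : K ≤ (Q : Subgroup G) := fun x hx => by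
      rw [← hg, Sylow.coe_subgroup_smul, Subgroup.mem_pointwise_smul_iff_inv_smul_mem]
      exact hR (by simpa [MulAut.smul_def, mul_assoc] using hK.conj_mem x hx g⁻¹)
    have he : K = (Q : Subgroup G) := Subgroup.eq_of_le_of_card_ge hle (by rw [hKc, hQ])
    exact he ▸ hK

/-- The conclusion at the primes three, five and seven. -/
theorem small_primes {d : ℕ} (χ : G → ℂ) (hχ : IsIrrCharacter G χ)
    (hfaith : ∀ g : G, χ g = χ 1 → g = 1) (hdeg : H12.degree χ = d) (hd : d + 1 < p)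
    (hp7 : p ≤ 7) (P : Sylow p G) (hnn : ¬ (P : Subgroup G).Normal)
    (hfive : ∀ (A : Type u) [Group A] [Finite A] (q : ℕ) [Fact q.Prime], q = 5 →
      ∀ Q : Sylow q A, Nat.card Q = q → ¬ (Q : Subgroup A).Normal → ∀ ζ : A → ℂ,
      IsIrrCharacter A ζ → (∀ g, ζ g = ζ 1 → g = 1) → H12.degree ζ = 3 →
      Nonempty ((A ⧸ Subgroup.center A) ≃* Matrix.ProjectiveSpecialLinearGroup (Fin 2) (ZMod 5)) ∨
        Nonempty ((A ⧸ Subgroup.center A) ≃* ↥(alternatingGroup (Fin 6))))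
    (hseven : ∀ (A : Type u) [Group A] [Finite A] (q : ℕ) [Fact q.Prime], q = 7 →
      ∀ Q : Sylow q A, Nat.card Q = q → ¬ (Q : Subgroup A).Normal → ∀ ζ : A → ℂ,
      IsIrrCharacter A ζ → (∀ g, ζ g = ζ 1 → g = 1) → H12.degree ζ = 4 →
      Nonempty ((A ⧸ Subgroup.center A) ≃* Matrix.ProjectiveSpecialLinearGroup (Fin 2) (ZMod 7)) ∨
        Nonempty ((A ⧸ Subgroup.center A) ≃* ↥(alternatingGroup (Fin 7)))) :
    (Nonempty (G ⧸ Subgroup.center G ≃* Matrix.ProjectiveSpecialLinearGroup (Fin 2) (ZMod p)) ∧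
        (2 * d = p + 1 ∨ 2 * d = p - 1)) ∨
      (p = 7 ∧ d = 4 ∧ Nonempty (G ⧸ Subgroup.center G ≃* ↥(alternatingGroup (Fin 7)))) ∨
      (p = 5 ∧ d = 3 ∧ Nonempty (G ⧸ Subgroup.center G ≃* ↥(alternatingGroup (Fin 6)))) := by
  classical
  have hnsmall : ¬ 2 * d + 1 < p := fun h => hnn
    (normal_of_small P (H12.isCharacter_of_isIrrCharacter hχ) hfaith (by rw [hdeg]; exact h))
  have hpp := hp.out
  obtain rfl | rfl | rfl | rfl : p = 2 ∨ p = 3 ∨ p = 5 ∨ p = 7 := by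
    have := hpp.two_le
    interval_cases p <;> first | omega | exact absurd hpp (by norm_num)
  · have := H12.irr_degree_pos (⟨χ, hχ⟩ : IrrCharacter G)
    simp only at this
    omega
  · exfalso
    have hd1 : d = 1 := by
      have := H12.irr_degree_pos (⟨χ, hχ⟩ : IrrCharacter G)
      simp only at this
      omega
    obtain ⟨l, hl⟩ := H12.exists_monoidHom_of_apply_one_eq_one
      (H12.isCharacter_of_isIrrCharacter hχ)
      (by rw [H12.IsCharacter.apply_one_eq_degree (H12.isCharacter_of_isIrrCharacter hχ), hdeg, hd1,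
        Nat.cast_one])
    refine hnn ⟨fun x hx g => ?_⟩
    have h2 : g * x * g⁻¹ * x⁻¹ = 1 := hfaith _ (by
      rw [← hl]; simp [mul_comm (l g) (l x)])
    rw [mul_inv_eq_one.1 h2]
    exact hx
  · obtain rfl | rfl : d = 2 ∨ d = 3 := by omega
    · obtain ⟨K, hKn, hKZ, hcen, Q, hQ, hQn, ζ, hζ, hζf, hζd⟩ :=
        exists_reduced_two rfl P hnn χ hχ hfaith hdeg
      obtain ⟨e⟩ := psl_half Q hQ hQn ζ hζ hζf (by rw [hζd])
      exact Or.inl ⟨⟨(centerQuotEquiv K hKZ hcen).symm.trans e⟩, Or.inr rfl⟩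
    · obtain ⟨K, hKn, ψ, -, hKZ, -, hcen, -, hψf, hψd, hQn, hQZ⟩ :=
        exists_quotient P hnn hχ hfaith hdeg (by omega)
      have hQ := H44.SmallPrime.five_reduced (G := G ⧸ K) 5 rfl
        (P.mapSurjective (QuotientGroup.mk'_surjective K)) hQn _ ψ.2 hψf hψd hQZ
      rcases hfive (G ⧸ K) 5 rfl _ hQ hQn _ ψ.2 hψf hψd with ⟨⟨e⟩⟩ | ⟨⟨e⟩⟩
      · exact Or.inl ⟨⟨(centerQuotEquiv K hKZ hcen).symm.trans e⟩, Or.inl rfl⟩
      · exact Or.inr (Or.inr ⟨rfl, rfl, ⟨(centerQuotEquiv K hKZ hcen).symm.trans e⟩⟩)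
  · obtain ⟨K, hKn, hKZ, hcen, Q, hQ, hQn, ζ, hζ, hζf, hζd⟩ :=
      exists_reduced le_rfl P hnn χ hχ hfaith (by omega)
    rw [hdeg] at hζd
    obtain rfl | rfl | rfl : d = 3 ∨ d = 4 ∨ d = 5 := by omega
    · obtain ⟨e⟩ := psl_half Q hQ hQn ζ hζ hζf (by rw [hζd])
      exact Or.inl ⟨⟨(centerQuotEquiv K hKZ hcen).symm.trans e⟩, Or.inr rfl⟩
    · rcases hseven (G ⧸ K) 7 rfl Q hQ hQn ζ hζ hζf hζd with ⟨⟨e⟩⟩ | ⟨⟨e⟩⟩
      · exact Or.inl ⟨⟨(centerQuotEquiv K hKZ hcen).symm.trans e⟩, Or.inl rfl⟩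
      · exact Or.inr (Or.inl ⟨rfl, rfl, ⟨(centerQuotEquiv K hKZ hcen).symm.trans e⟩⟩)
    · exfalso
      letI : Fintype (G ⧸ K) := Fintype.ofFinite _
      obtain ⟨a, F, iF, iFin, h1, -, -⟩ := H15.PSubTwo.main (by norm_num) Q hQ hQn ζ hζ hζf
        (by rw [hζd])
      rcases a with _ | _ | _ | a <;> simp [pow_succ] at h1 <;> omega

end H14.SmallDeg
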