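import Cfsg.Agent.H14.SmallDeg.PrimeOrder
import Cfsg.Agent.H14.SmallDeg.Small
import Mathlib.GroupTheory.FiniteAbelian.Duality

/-!
A faithful irreducible character of small degree, twisted to make the central part of the Sylow
subgroup act trivially.
-/

set_option autoImplicit false
set_option linter.style.haveILetI false
set_option linter.unusedSectionVars false

open Cfsg
open scoped ComplexConjugate

namespace H14.SmallDeg

universe u v

/-- Degree `k` leaves a Sylow subgroup of order `p` once it meets the center trivially. -/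
def Red (p k : ℕ) [Fact p.Prime] : Prop :=
  ∀ (G : Type u) [Group G] [Finite G] (P : Sylow p G), ¬ (P : Subgroup G).Normal →
    ∀ χ : G → ℂ, IsIrrCharacter G χ → (∀ g : G, χ g = χ 1 → g = 1) → H12.degree χ = k →
    (P : Subgroup G) ⊓ Subgroup.center G = ⊥ → Nat.card P = p

variable {G : Type u} [Group G] [Finite G] {p : ℕ} [hp : Fact p.Prime]

/-- An element whose character value is a unit multiple of the degree is central. -/
theorem mem_center_of_norm {χ : G → ℂ} (hχ : IsIrrCharacter G χ)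
    (hfaith : ∀ g : G, χ g = χ 1 → g = 1) {g : G}
    (hg : ‖χ g‖ = (H12.degree χ : ℝ)) : g ∈ Subgroup.center G := by
  haveI := Fintype.ofFinite G
  exact H15.HalfDeg.mem_center_of_norm ⟨χ, hχ⟩ hfaith hg

/-- A linear character with prescribed values on the central part of the Sylow subgroup. -/
theorem exists_twist (P : Sylow p G) {χ : G → ℂ} (hχ : IsIrrCharacter G χ)
    (hfaith : ∀ g : G, χ g = χ 1 → g = 1) (hdp : H12.degree χ < p) :
    ∃ lam : G →* ℂˣ, ∀ z ∈ (P : Subgroup G), z ∈ Subgroup.center G →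
      χ z = (lam z : ℂ) * χ 1 := by
  classical
  haveI := Fintype.ofFinite G
  have hab := SmallDegree.sylow_comm P (H12.isCharacter_of_isIrrCharacter hχ) hfaith
    (H12.IsCharacter.apply_one_eq_degree (H12.isCharacter_of_isIrrCharacter hχ)) hdp
  set S := (P : Subgroup G) ⊓ Subgroup.center G with hS
  letI : CommGroup S :=
    { (inferInstance : Group S) with
      mul_comm := fun a b => Subtype.ext (hab a a.2.1 b b.2.1) }
  haveI := Fintype.ofFinite S
  obtain ⟨om, -, hom⟩ := exists_mu_central hχ (fun a b : S => mul_comm a b) S.subtype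
    fun a g => Subgroup.mem_center_iff.1 a.2.2 g
  let ι : S →* Abelianization G := Abelianization.of.comp S.subtype
  have hι : Function.Injective ι := by
    rw [injective_iff_map_eq_one]
    intro z hz
    exact Subtype.ext (SmallDegree.eq_one_of_center P hab z.2.1 z.2.2
      ((QuotientGroup.eq_one_iff _).1 hz))
  haveI : NeZero (Monoid.exponent (Abelianization G) : ℕ) := ⟨Monoid.exponent_ne_zero_of_finite⟩
  obtain ⟨g, hg⟩ := MonoidHom.domRestrict_surjective (M := ℂ) ι.range
    (om.comp (MonoidHom.ofInjective hι).symm.toMonoidHom)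
  refine ⟨g.comp Abelianization.of, fun z hzP hzZ => ?_⟩
  have h1 := DFunLike.congr_fun hg (MonoidHom.ofInjective hι ⟨z, hzP, hzZ⟩)
  simp only [MonoidHom.domRestrictHom_apply, MonoidHom.domRestrict_apply, MonoidHom.coe_comp,
    Function.comp_apply, MulEquiv.coe_toMonoidHom, MulEquiv.symm_apply_apply] at h1
  rw [show χ z = χ (S.subtype ⟨z, hzP, hzZ⟩) from rfl, hom]
  congr 1
  rw [← h1]
  rfl

/-- The quotient by the kernel of the twisted character. -/
theorem exists_quotient (P : Sylow p G) (hnn : ¬ (P : Subgroup G).Normal) {χ : G → ℂ}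
    (hχ : IsIrrCharacter G χ) (hfaith : ∀ g : G, χ g = χ 1 → g = 1) {k : ℕ}
    (hdeg : H12.degree χ = k) (hk : k + 2 ≤ p) :
    ∃ (K : Subgroup G) (_ : K.Normal) (ψ : IrrCharacter (G ⧸ K)) (lam : G →* ℂˣ),
      K ≤ Subgroup.center G ∧
      (∀ z ∈ (P : Subgroup G), z ∈ Subgroup.center G → z ∈ K) ∧
      (∀ g : G, (g : G ⧸ K) ∈ Subgroup.center (G ⧸ K) → g ∈ Subgroup.center G) ∧
      (∀ g : G, (ψ : G ⧸ K → ℂ) (g : G ⧸ K) = χ g * conj (lam g : ℂ)) ∧
      (∀ x, (ψ : G ⧸ K → ℂ) x = (ψ : G ⧸ K → ℂ) 1 → x = 1) ∧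
      H12.degree (ψ : G ⧸ K → ℂ) = k ∧
      ¬ ((P.mapSurjective (QuotientGroup.mk'_surjective K) : Sylow p (G ⧸ K)) :
        Subgroup (G ⧸ K)).Normal ∧
      (P : Subgroup G).map (QuotientGroup.mk' K) ⊓ Subgroup.center (G ⧸ K) = ⊥ := by
  classical
  haveI := Fintype.ofFinite G
  have hch := H12.isCharacter_of_isIrrCharacter hχ
  obtain ⟨lam, hlam⟩ := exists_twist P hχ hfaith (by omega)
  have hnorm : ∀ g, conj (lam g : ℂ) * (lam g : ℂ) = 1 := fun g => by
    rw [conj_lin, inv_mul_cancel₀ (lam g).ne_zero]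
  set F : G → ℂ := fun g => χ g * conj (lam g : ℂ) with hF
  have hFc : IsCharacter G F := H12.IsCharacter.mul hch
    (H12.IsCharacter.star (H12.isCharacter_monoidHom lam))
  have hFirr : IsIrrCharacter G F := by
    refine H12.isIrrCharacter_of_classInner_self_eq_one hFc ?_
    have h1 : classInner χ χ = 1 := H12.classInner_irr_self ⟨χ, hχ⟩
    refine Eq.trans ?_ h1
    rw [H12.classInner_def, H12.classInner_def]
    congr 1
    refine Finset.sum_congr rfl fun g _ => ?_
    simp only [hF, map_mul, Complex.conj_conj]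
    linear_combination (χ g * conj (χ g)) * hnorm g
  have hF1 : F 1 = χ 1 := by simp [hF]
  set φ : IrrCharacter G := ⟨F, hFirr⟩ with hφ
  set K := H24.kerChar φ with hK
  have hFd : H12.degree F = k := by rw [← hdeg, H12.degree, hF1]; rfl
  have hKZ : K ≤ Subgroup.center G := fun g hg => by
    refine mem_center_of_norm hχ hfaith ?_
    have h1 : F g = F 1 := H24.mem_kerChar.1 hg
    rw [hF1] at h1
    have h2 : ‖χ g‖ = ‖χ 1‖ := by
      rw [← h1, hF]
      simp [Complex.norm_eq_one_of_pow_eq_one (show (lam g : ℂ) ^ orderOf g = 1 by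
        rw [← Units.val_pow_eq_pow_val, ← map_pow, pow_orderOf_eq_one, map_one, Units.val_one])
        (orderOf_pos g).ne']
    rw [h2, H12.IsCharacter.apply_one_eq_degree hch, Complex.norm_natCast]
  have hSK : ∀ z ∈ (P : Subgroup G), z ∈ Subgroup.center G → z ∈ K := fun z hzP hzZ => by
    rw [hK, H24.mem_kerChar]
    show F z = F 1
    rw [hF1, hF]
    simp only
    rw [hlam z hzP hzZ]
    linear_combination (χ 1) * hnorm z
  obtain ⟨ψ, hψ⟩ := H24.exists_deflate K φ le_rfl
  have hψv : ∀ g : G, (ψ : G ⧸ K → ℂ) (g : G ⧸ K) = F g := fun g =>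
    congrFun (congrArg Subtype.val hψ) g
  have hψf : ∀ x, (ψ : G ⧸ K → ℂ) x = (ψ : G ⧸ K → ℂ) 1 → x = 1 := fun x hx =>
    (Subgroup.eq_bot_iff_forall _).1 (H24.kerChar_eq_bot_deflate φ ψ hψ) x (H24.mem_kerChar.2 hx)
  have hψd : H12.degree (ψ : G ⧸ K → ℂ) = k := by
    rw [← hFd, H12.degree, H12.degree, ← hψv 1]
    rfl
  set π := QuotientGroup.mk' K with hπ
  set Q : Sylow p (G ⧸ K) := P.mapSurjective (QuotientGroup.mk'_surjective K) with hQ
  have hQc' : (Q : Subgroup (G ⧸ K)) = (P : Subgroup G).map π := rfl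
  have hQn : ¬ (Q : Subgroup (G ⧸ K)).Normal := by
    intro hN
    refine hnn ?_
    have hM : ((Q : Subgroup (G ⧸ K)).comap π).Normal := hN.comap π
    set M := (Q : Subgroup (G ⧸ K)).comap π with hMdef
    have hPM : (P : Subgroup G) ≤ M := fun x hx => Subgroup.mem_map_of_mem π hx
    have hsplit : ∀ m ∈ M, ∃ x ∈ (P : Subgroup G), x⁻¹ * m ∈ Subgroup.center G := by
      intro m hm
      obtain ⟨x, hx, hxm⟩ := (hm : π m ∈ (P : Subgroup G).map π)
      exact ⟨x, hx, hKZ (QuotientGroup.eq.1 hxm)⟩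
    refine ⟨fun x hx g => ?_⟩
    set y := g * x * g⁻¹ with hy
    obtain ⟨j, hj⟩ := exists_pow_of_mem_sylow P hx
    obtain ⟨w, hw, hwy⟩ := hsplit y (hM.conj_mem x (hPM hx) g)
    set z := w⁻¹ * y with hz
    have hyw : y = w * z := (mul_inv_cancel_left w y).symm
    have hyN : y ∈ Subgroup.normalizer ((P : Subgroup G) : Set G) := by
      rw [hyw]
      exact mul_mem (Subgroup.le_normalizer hw)
        (Subgroup.centralizer_le_normalizer _ fun v _ => Subgroup.mem_center_iff.1 hwy v)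
    have hyp : y ^ p ^ j = 1 := by rw [hy, conj_pow, hj, mul_one, mul_inv_cancel]
    obtain ⟨i, -, hi⟩ := (Nat.dvd_prime_pow hp.out).1 (orderOf_dvd_of_pow_eq_one hyp)
    have h2 : IsPGroup p (Subgroup.zpowers y) :=
      IsPGroup.of_card (n := i) (by rw [Nat.card_zpowers, hi])
    exact ((SetLike.ext_iff.1 (h2.inf_normalizer_sylow P) _).1
      (Subgroup.mem_inf.2 ⟨Subgroup.mem_zpowers _, hyN⟩)).2
  have hcentre : ∀ g : G, π g ∈ Subgroup.center (G ⧸ K) → g ∈ Subgroup.center G := by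
    intro g hg
    refine mem_center_of_norm hχ hfaith ?_
    obtain ⟨n, ρ, hρ, hρψ⟩ := ψ.2
    haveI := hρ
    obtain ⟨c, hc⟩ := H12.exists_scalar_of_commute ρ (ρ (π g)) fun y => by
      rw [← map_mul, ← map_mul, Subgroup.mem_center_iff.1 hg y]
    have hn0 : 0 < n := by
      have := H12.irr_degree_pos ψ
      rw [← hρψ, H12.degree_character, Module.finrank_fin_fun] at this
      exact this
    have hcn : ‖c‖ = 1 := by
      refine Complex.norm_eq_one_of_pow_eq_one (n := orderOf (π g)) ?_ (orderOf_pos _).ne'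
      have h3 : ρ (π g ^ orderOf (π g)) = (c ^ orderOf (π g)) • (1 : Module.End ℂ (Fin n → ℂ)) := by
        rw [map_pow, hc, smul_pow, one_pow]
      rw [pow_orderOf_eq_one, map_one] at h3
      have h4 := congrArg (LinearMap.trace ℂ (Fin n → ℂ)) h3
      rw [map_smul, LinearMap.trace_one, smul_eq_mul, Module.finrank_fin_fun] at h4
      exact mul_right_cancel₀ (Nat.cast_ne_zero.2 hn0.ne') (h4.symm.trans (one_mul _).symm)
    have h1 : F g = c * (k : ℂ) := by
      rw [← hψv, ← hψd, ← hρψ, H12.degree_character, Module.finrank_fin_fun]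
      show LinearMap.trace ℂ _ (ρ (π g)) = _
      rw [hc, map_smul, LinearMap.trace_one, smul_eq_mul, Module.finrank_fin_fun]
    have h2 := congrArg (fun z : ℂ => ‖z‖) h1
    simp only [hF, norm_mul, RCLike.norm_conj, Complex.norm_natCast] at h2
    rw [Complex.norm_eq_one_of_pow_eq_one (show (lam g : ℂ) ^ orderOf g = 1 by
      rw [← Units.val_pow_eq_pow_val, ← map_pow, pow_orderOf_eq_one, map_one, Units.val_one])
      (orderOf_pos g).ne', hcn, mul_one, one_mul] at h2
    rw [h2, hdeg]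
  have hQZ : (Q : Subgroup (G ⧸ K)) ⊓ Subgroup.center (G ⧸ K) = ⊥ := by
    rw [eq_bot_iff]
    rintro x ⟨hx1, hx2⟩
    obtain ⟨w, hw, rfl⟩ := hx1
    exact (QuotientGroup.eq_one_iff w).2 (hSK w hw (hcentre w hx2))
  exact ⟨K, inferInstance, ψ, lam, hKZ, hSK, hcentre, hψv, hψf, hψd, hQn, hQZ⟩

/-- The consequences of `Red` without the hypothesis on the center. -/
theorem structure_of_red {k : ℕ} (hred : Red.{u} p k) (hk : k + 2 ≤ p) (P : Sylow p G)
    (hnn : ¬ (P : Subgroup G).Normal) {χ : G → ℂ} (hχ : IsIrrCharacter G χ)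
    (hfaith : ∀ g : G, χ g = χ 1 → g = 1) (hdeg : H12.degree χ = k) :
    (∀ (A : Type u) [Group A] [Fintype A] (f : A →* G), (∀ a, f a ∈ (P : Subgroup G)) →
        (∃ a, f a ∉ Subgroup.center G) → ∀ l : A →* ℂˣ, mu χ f l ≤ 1) ∧
      (2 * k + 1 = p → ∀ (A : Type u) [Group A] [Fintype A] (f : A →* G),
        (∀ a, f a ∈ (P : Subgroup G) ∧ f a ∈ commutator G) → (∃ a, f a ≠ 1) → mu χ f 1 = 0) ∧
      (∃ y ∈ (P : Subgroup G), y ∈ commutator G ∧ y ≠ 1) ∧
      (∀ a ∈ (P : Subgroup G), a ∉ Subgroup.center G → ∀ b ∈ (P : Subgroup G),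
        ∃ i : ℤ, (a ^ i)⁻¹ * b ∈ Subgroup.center G) := by
  classical
  haveI := Fintype.ofFinite G
  have hch := H12.isCharacter_of_isIrrCharacter hχ
  obtain ⟨K, hKn, ψ, lam, hKZ, hSK, hcentre, hψv, hψf, hψd, hQn, hQZ⟩ :=
    exists_quotient P hnn hχ hfaith hdeg hk
  set F : G → ℂ := fun g => χ g * conj (lam g : ℂ) with hF
  set π := QuotientGroup.mk' K with hπ
  set Q : Sylow p (G ⧸ K) := P.mapSurjective (QuotientGroup.mk'_surjective K) with hQ
  have hQcard : Nat.card Q = p := hred (G ⧸ K) Q hQn _ ψ.2 hψf hψd hQZ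
  haveI := Fintype.ofFinite (Q : Subgroup (G ⧸ K))
  obtain ⟨hmf, hfix, hder⟩ := prime_order Q hQcard hQn _ ψ.2 hψf (by omega)
  have hgen : ∀ a ∈ (P : Subgroup G), a ∉ Subgroup.center G → ∀ b ∈ (P : Subgroup G),
      ∃ i : ℤ, (π a) ^ i = π b := by
    intro a ha haZ b hb
    have h1 : π a ≠ 1 := fun h => haZ (hKZ ((QuotientGroup.eq_one_iff a).1 h))
    have h2 : π b ∈ Subgroup.zpowers (π a) := by
      rw [H20.PrimeSylow.zpowers_eq hQcard (Subgroup.mem_map_of_mem π ha) h1]
      exact Subgroup.mem_map_of_mem π hb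
    exact Subgroup.mem_zpowers_iff.1 h2
  -- multiplicities pass to the quotient
  have hmu : ∀ (A : Type u) [Group A] [Fintype A] (f : A →* G), (∀ a, f a ∈ (P : Subgroup G)) →
      (∃ a, f a ∉ K) → ∀ l : A →* ℂˣ, ∃ l' : (Q : Subgroup (G ⧸ K)) →* ℂˣ,
        (mu χ f l = 0 ∨ mu χ f l = mu (ψ : G ⧸ K → ℂ) (Q : Subgroup (G ⧸ K)).subtype l') ∧
        ((∀ a, l a = lam (f a)) → l' = 1) := by
    intro A _ _ f hf hne l
    set l₁ : A →* ℂˣ := l * (lam.comp f)⁻¹ with hl₁
    set fb : A →* (Q : Subgroup (G ⧸ K)) := (π.comp f).codRestrict _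
      (fun a => Subgroup.mem_map_of_mem π (hf a)) with hfb
    have hfbv : ∀ a, ((fb a : (Q : Subgroup (G ⧸ K))) : G ⧸ K) = π (f a) := fun a => rfl
    obtain ⟨a₀, ha₀⟩ := hne
    have hsurj : Function.Surjective fb := by
      intro x
      have h1 : (fb a₀ : G ⧸ K) ≠ 1 := fun h => ha₀ ((QuotientGroup.eq_one_iff _).1 h)
      have h2 : (x : G ⧸ K) ∈ Subgroup.zpowers (fb a₀ : G ⧸ K) := by
        rw [H20.PrimeSylow.zpowers_eq hQcard (fb a₀).2 h1]
        exact x.2
      obtain ⟨i, hi⟩ := Subgroup.mem_zpowers_iff.1 h2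
      exact ⟨a₀ ^ i, Subtype.ext (by rw [map_zpow, Subgroup.coe_zpow, hi])⟩
    have hval : mu χ f l = mu (ψ : G ⧸ K → ℂ) (π.comp f) l₁ := by
      have h : (mu χ f l : ℂ) = (mu (ψ : G ⧸ K → ℂ) (π.comp f) l₁ : ℂ) := by
        rw [mu_cast hch, mu_cast (H12.isCharacter_irr ψ), H12.classInner_def, H12.classInner_def]
        congr 1
        refine Finset.sum_congr rfl fun a _ => ?_
        rw [show (π.comp f) a = ((f a : G) : G ⧸ K) from rfl, hψv]
        simp only [hF, hl₁, MonoidHom.mul_apply, MonoidHom.inv_apply, MonoidHom.comp_apply,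
          Units.val_mul, Units.val_inv_eq_inv_val, map_mul, map_inv₀, conj_lin, inv_inv]
        have h0 := (lam (f a)).ne_zero
        field_simp
      exact_mod_cast h
    obtain ⟨n, ρ, hρ, hρψ⟩ := id ψ.2
    rw [hval, ← hρψ, mu_eq_finrank]
    by_cases he : esp ρ (π.comp f) l₁ = ⊥
    · exact ⟨1, Or.inl (by rw [he, finrank_bot]), fun _ => rfl⟩
    obtain ⟨v, hv, hv0⟩ := Submodule.exists_mem_ne_zero_of_ne_bot he
    have hker : fb.ker ≤ l₁.ker := fun a ha => by
      have h1 := mem_esp.1 hv a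
      rw [MonoidHom.comp_apply, ← hfbv, MonoidHom.mem_ker.1 ha, OneMemClass.coe_one, map_one,
        Module.End.one_apply] at h1
      have h2 : (1 : ℂ) • v = (l₁ a : ℂ) • v := (one_smul ℂ v).trans h1
      exact MonoidHom.mem_ker.2 (Units.ext ((smul_left_injective ℂ hv0 h2).symm))
    set l' := fb.liftOfSurjective hsurj ⟨l₁, hker⟩ with hl'
    have hl'v : ∀ a, l' (fb a) = l₁ a := fun a =>
      MonoidHom.liftOfRightInverse_comp_apply _ _ _ ⟨l₁, hker⟩ a
    refine ⟨l', Or.inr ?_, fun hl => ?_⟩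
    · rw [mu_eq_finrank]
      refine congrArg (fun S : Submodule ℂ (Fin n → ℂ) => Module.finrank ℂ S) ?_
      ext w
      rw [mem_esp, mem_esp]
      refine ⟨fun h x => ?_, fun h a => ?_⟩
      · obtain ⟨a, rfl⟩ := hsurj x
        rw [hl'v]
        exact h a
      · have := h (fb a)
        rw [hl'v] at this
        exact this
    · refine MonoidHom.ext fun x => ?_
      obtain ⟨a, rfl⟩ := hsurj x
      rw [hl'v, hl₁, MonoidHom.mul_apply, MonoidHom.inv_apply, MonoidHom.comp_apply, hl a,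
        mul_inv_cancel, MonoidHom.one_apply]
  have hKcomm : ∀ y ∈ (P : Subgroup G), y ∈ commutator G → y ∈ K → y = 1 := fun y hy hyD hyK =>
    SmallDegree.eq_one_of_center P (SmallDegree.sylow_comm P hch hfaith
      (H12.IsCharacter.apply_one_eq_degree hch) (by omega)) hy (hKZ hyK) hyD
  have hlamD : ∀ y ∈ commutator G, lam y = 1 := fun y hy =>
    Abelianization.commutator_subset_ker lam hy
  refine ⟨?_, ?_, ?_, ?_⟩
  · intro A _ _ f hf hne l
    obtain ⟨a, ha⟩ := hne
    obtain ⟨l', h, -⟩ := hmu A f hf ⟨a, fun h => ha (hKZ h)⟩ l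
    rcases h with h | h <;> rw [h]
    · exact Nat.zero_le _
    · exact hmf l'
  · intro h2k A _ _ f hf hne
    obtain ⟨a, ha⟩ := hne
    obtain ⟨l', h, hl'⟩ := hmu A f (fun b => (hf b).1)
      ⟨a, fun h => ha (hKcomm _ (hf a).1 (hf a).2 h)⟩ 1
    rcases h with h | h <;> rw [h]
    rw [hl' fun b => by rw [MonoidHom.one_apply, hlamD _ (hf b).2]]
    exact hfix (by rw [hψd]; exact h2k)
  · set D := commutator G with hD
    obtain ⟨R⟩ : Nonempty (Sylow p D) := inferInstance
    by_cases hdvd : p ∣ Nat.card D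
    · obtain ⟨y, hy⟩ := exists_prime_orderOf_dvd_card' p hdvd
      obtain ⟨S, hS⟩ := (IsPGroup.of_card (n := 1) (by
        rw [Nat.card_zpowers, Subgroup.orderOf_coe, hy, pow_one]) :
          IsPGroup p (Subgroup.zpowers (y : G))).exists_le_sylow
      obtain ⟨g, hg⟩ := MulAction.exists_smul_eq G P S
      have h1 : (y : G) ∈ (S : Subgroup G) := hS (Subgroup.mem_zpowers _)
      rw [← hg, Sylow.coe_subgroup_smul] at h1
      refine ⟨g⁻¹ * y * g, SmallDegree.conj_inv_mem_of h1, ?_, fun he => ?_⟩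
      · simpa using (inferInstance : D.Normal).conj_mem (y : G) y.2 g⁻¹
      · have h3 : (y : G) = 1 := by
          calc (y : G) = g * (g⁻¹ * y * g) * g⁻¹ := by group
            _ = 1 := by rw [he, mul_one, mul_inv_cancel]
        have h4 : y = 1 := Subtype.ext h3
        rw [h4, orderOf_one] at hy
        exact hp.out.one_lt.ne hy
    · exfalso
      have hQb : (Q : Subgroup (G ⧸ K)) = ⊥ := by
        refine (Subgroup.eq_bot_iff_forall _).2 fun x hx => ?_
        have h1 : x ∈ D.map π := by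
          rw [hD, commutator_def, Subgroup.map_commutator,
            Subgroup.map_top_of_surjective _ (QuotientGroup.mk'_surjective K), ← commutator_def]
          exact hder hx
        have h2 : orderOf x ∣ p := hQcard ▸ (Subgroup.orderOf_mk x hx ▸ orderOf_dvd_natCard _)
        rcases (Nat.dvd_prime hp.out).1 h2 with h | h
        · exact orderOf_eq_one_iff.1 h
        · obtain ⟨d', hd', rfl⟩ := h1
          exact absurd ((h.symm ▸ (orderOf_map_dvd π d' : orderOf (π d') ∣ orderOf d')).trans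
            (D.orderOf_dvd_natCard hd')) hdvd
      exact hQn (hQb ▸ inferInstance)
  · intro a ha haZ b hb
    obtain ⟨i, hi⟩ := hgen a ha haZ b hb
    exact ⟨i, hKZ (QuotientGroup.eq.1 (by rw [← map_zpow] at hi; exact hi))⟩

end H14.SmallDeg
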